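import Cfsg.Agent.Lib.GH.Ex
import Cfsg.Agent.Lib.T3.Hlp

/-! The Sylow 2-subgroup of `M₁₂`: letters `x y t u z v w e`, subgroups `S T C U Q E₁ E Eᵤ`. -/

set_option autoImplicit false
set_option maxRecDepth 100000

namespace Cfsg.Lib.GH

open Cfsg.Lib.Calc Cfsg.Lib.T2 Cfsg.Lib.T3 Subgroup
open Cfsg.Lib.Inv (we WR)

def m64_L0 : List (ℕ × List ℕ) := [((nat_lit 0), [(nat_lit 16434824), (nat_lit 16433361), (nat_lit 6852524), (nat_lit 11788826), (nat_lit 16434243), (nat_lit 6851061), (nat_lit 2206526), (nat_lit 6851943)]),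
  ((nat_lit 4), [(nat_lit 16434824), (nat_lit 10442376), (nat_lit 14055048), (nat_lit 11789960)]),
  ((nat_lit 1), [(nat_lit 16434824), (nat_lit 12305048)])]

def m64_D0 : List ℕ := [(nat_lit 0), (nat_lit 513), (nat_lit 1537), (nat_lit 2561), (nat_lit 769), (nat_lit 144898), (nat_lit 171522), (nat_lit 181506), (nat_lit 0), (nat_lit 1025), (nat_lit 1281), (nat_lit 369666), (nat_lit 0), (nat_lit 2049)]

def m64_L1 : List (ℕ × List ℕ) := [((nat_lit 0), [(nat_lit 16434824), (nat_lit 16433361), (nat_lit 16434243), (nat_lit 16433690)]),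
  ((nat_lit 4), [(nat_lit 16434824), (nat_lit 10442376), (nat_lit 14055048), (nat_lit 11789960)]),
  ((nat_lit 1), [(nat_lit 16434824), (nat_lit 12305048)])]

def m64_D1 : List ℕ := [(nat_lit 0), (nat_lit 513), (nat_lit 769), (nat_lit 36354), (nat_lit 0), (nat_lit 1025), (nat_lit 1281), (nat_lit 102402), (nat_lit 0), (nat_lit 1537)]

def m64_L2 : List (ℕ × List ℕ) := [((nat_lit 0), [(nat_lit 16434824), (nat_lit 16433361), (nat_lit 16434243), (nat_lit 16433690)]),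
  ((nat_lit 4), [(nat_lit 16434824), (nat_lit 10442376), (nat_lit 14055048), (nat_lit 11789960)])]

def m64_D2 : List ℕ := [(nat_lit 0), (nat_lit 513), (nat_lit 769), (nat_lit 25090), (nat_lit 0), (nat_lit 1025), (nat_lit 1281), (nat_lit 82946)]

def m64_L3 : List (ℕ × List ℕ) := [((nat_lit 0), [(nat_lit 16434824), (nat_lit 11788826)]),
  ((nat_lit 4), [(nat_lit 16434824), (nat_lit 11789960)])]

def m64_D3 : List ℕ := [(nat_lit 0), (nat_lit 513), (nat_lit 0), (nat_lit 14594)]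

def m64_L4 : List (ℕ × List ℕ) := [((nat_lit 0), [(nat_lit 16434824), (nat_lit 16433690), (nat_lit 6852524), (nat_lit 14570689), (nat_lit 6851390), (nat_lit 14569555), (nat_lit 4988389), (nat_lit 4987255)]),
  ((nat_lit 1), [(nat_lit 16434824), (nat_lit 12305048)]),
  ((nat_lit 4), [(nat_lit 16434824), (nat_lit 11789960)])]

def m64_D4 : List ℕ := [(nat_lit 0), (nat_lit 513), (nat_lit 1025), (nat_lit 2049), (nat_lit 56322), (nat_lit 63490), (nat_lit 80898), (nat_lit 112642), (nat_lit 0), (nat_lit 1537), (nat_lit 0), (nat_lit 3690243)]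

def m64_L5 : List (ℕ × List ℕ) := [((nat_lit 0), [(nat_lit 16434824), (nat_lit 11788826), (nat_lit 14570689), (nat_lit 9924691)]),
  ((nat_lit 4), [(nat_lit 16434824), (nat_lit 11789960)])]

def m64_D5 : List ℕ := [(nat_lit 0), (nat_lit 513), (nat_lit 1537), (nat_lit 37378), (nat_lit 0), (nat_lit 21250)]

def m64_L6 : List (ℕ × List ℕ) := [((nat_lit 0), [(nat_lit 16434824), (nat_lit 11788826), (nat_lit 12305601), (nat_lit 15917139)]),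
  ((nat_lit 4), [(nat_lit 16434824), (nat_lit 11789960)])]

def m64_D6 : List ℕ := [(nat_lit 0), (nat_lit 513), (nat_lit 1537), (nat_lit 37378), (nat_lit 0), (nat_lit 21250)]

def m64_L7 : List (ℕ × List ℕ) := [((nat_lit 0), [(nat_lit 16434824), (nat_lit 11788826)]),
  ((nat_lit 4), [(nat_lit 16434824), (nat_lit 11789960)]),
  ((nat_lit 1), [(nat_lit 16434824), (nat_lit 12305048)])]

def m64_D7 : List ℕ := [(nat_lit 0), (nat_lit 513), (nat_lit 0), (nat_lit 17154), (nat_lit 0), (nat_lit 1537)]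

def m64 : PM :=
  ⟨(nat_lit 8), (nat_lit 3), [(nat_lit 16433361), (nat_lit 10442376), (nat_lit 6852524), (nat_lit 12305048), (nat_lit 11788826), (nat_lit 16433690), (nat_lit 14570689), (nat_lit 12305601)],
    [[.l 1, .l 2, .l 3, .l 4, .l 5, .l 6, .l 7, .l 8],
    [.l 1, .l 2, .l 4],
    [.l 1, .l 2],
    [.l 5, .l 6],
    [.l 6, .l 3, .l 4, .l 7],
    [.l 5, .l 6, .l 7],
    [.l 5, .l 6, .l 8],
    [.l 5, .l 6, .l 4]],
    [m64_L0, m64_L1, m64_L2, m64_L3, m64_L4, m64_L5, m64_L6, m64_L7], [m64_D0, m64_D1, m64_D2, m64_D3, m64_D4, m64_D5, m64_D6, m64_D7]⟩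

instance m64_ne : NeZero m64.n := ⟨by decide⟩

theorem m64_ok0 : m64.ok0 = true := by decide +kernel

theorem m64_k0 : allFrom (nat_lit 0) (nat_lit 1) m64.okK = true := by decide +kernel

theorem m64_k1 : allFrom (nat_lit 1) (nat_lit 1) m64.okK = true := by decide +kernel

theorem m64_k2 : allFrom (nat_lit 2) (nat_lit 1) m64.okK = true := by decide +kernel

theorem m64_k3 : allFrom (nat_lit 3) (nat_lit 1) m64.okK = true := by decide +kernel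

theorem m64_k4 : allFrom (nat_lit 4) (nat_lit 1) m64.okK = true := by decide +kernel

theorem m64_k5 : allFrom (nat_lit 5) (nat_lit 1) m64.okK = true := by decide +kernel

theorem m64_k6 : allFrom (nat_lit 6) (nat_lit 1) m64.okK = true := by decide +kernel

theorem m64_k7 : allFrom (nat_lit 7) (nat_lit 1) m64.okK = true := by decide +kernel

theorem m64_ok : m64.OK := PM.OK.of_check m64_ok0
  (of_allFrom_append (of_allFrom_append (of_allFrom_append (of_allFrom_append (of_allFrom_append (of_allFrom_append (of_allFrom_append (of_allFrom_append of_lt_zero m64_k0) m64_k1) m64_k2) m64_k3) m64_k4) m64_k5) m64_k6) m64_k7)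

theorem m64_card0 : Nat.card (genW m64.gam (m64.ws 0)) = 64 := (m64_ok.card 0).trans (by decide +kernel)

theorem m64_card1 : Nat.card (genW m64.gam (m64.ws 1)) = 32 := (m64_ok.card 1).trans (by decide +kernel)

theorem m64_card2 : Nat.card (genW m64.gam (m64.ws 2)) = 16 := (m64_ok.card 2).trans (by decide +kernel)

theorem m64_card3 : Nat.card (genW m64.gam (m64.ws 3)) = 4 := (m64_ok.card 3).trans (by decide +kernel)

theorem m64_card4 : Nat.card (genW m64.gam (m64.ws 4)) = 32 := (m64_ok.card 4).trans (by decide +kernel)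

theorem m64_card5 : Nat.card (genW m64.gam (m64.ws 5)) = 8 := (m64_ok.card 5).trans (by decide +kernel)

theorem m64_card6 : Nat.card (genW m64.gam (m64.ws 6)) = 8 := (m64_ok.card 6).trans (by decide +kernel)

theorem m64_card7 : Nat.card (genW m64.gam (m64.ws 7)) = 8 := (m64_ok.card 7).trans (by decide +kernel)

theorem m64_all {G : Type*} [Group G] {γ : ℕ → G} (g : Gf m64 γ 0 []) :
    ∀ s ∈ genW γ (m64.ws 0), s * s = 1 → s = 1 ∨ s = γ 5 ∨ s ∈ genW γ (m64.ws 3) ∧ (∃ g ∈ genW γ (m64.ws 0), g * s = γ 6 * g ∧ True) ∨ s ∈ genW γ (m64.ws 7) ∧ s ∉ genW γ (m64.ws 3) ∧ (∃ g ∈ genW γ (m64.ws 0), g * s = γ 4 * g ∧ True) ∨ s ∈ genW γ (m64.ws 1) ∧ s ∉ genW γ (m64.ws 7) ∧ (∃ g ∈ genW γ (m64.ws 0), g * s = γ 7 * g ∧ True) ∨ s ∈ genW γ (m64.ws 1) ∧ s ∉ genW γ (m64.ws 7) ∧ (∃ g ∈ genW γ (m64.ws 0), g * s = γ 8 * g ∧ True) ∨ s ∉ genW γ (m64.ws 1) ∧ (∃ g ∈ genW γ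 (m64.ws 0), g * s = γ 3 * g ∧ True) ∨ s ∉ genW γ (m64.ws 1) ∧ (∃ g ∈ genW γ (m64.ws 0), g * s = γ 4 * γ 3 * g ∧ True) :=
  g.tr (φ := .all 0 40 [] (.imp (.one (.mul (.l 40) (.l 40))) (.or (.one (.l 40)) (.or (.eq (.l 40) (.l 5)) (.or (.and (.mem 3 (.l 40)) (.ex 0 41 [(.l 40, .l 6)] (.tt))) (.or (.and (.mem 7 (.l 40)) (.and (.not (.mem 3 (.l 40))) (.ex 0 41 [(.l 40, .l 4)] (.tt)))) (.or (.and (.mem 1 (.l 40)) (.and (.not (.mem 7 (.l 40))) (.ex 0 41 [(.l 40, .l 7)] (.tt)))) (.or (.and (.mem 1 (.l 40)) (.and (.not (.mem 7 (.l 40))) (.ex 0 41 [(.l 40, .l 8)] (.tt)))) (.or (.and (.not (.mem 1 (.l 40))) (.ex 0 41 [(.l 40, .l 3)] (.tt))) (.and (.not (.mem 1 (.l 40))) (.ex 0 41 [(.l 40, .mul (.l 4) (.l 3))] (.tt)))))))))))) (by decide +kernel)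

theorem m64_nT {G : Type*} [Group G] {γ : ℕ → G} (g : Gf m64 γ 0 []) :
    ∀ a ∈ genW γ (m64.ws 0), a * a * (a * a) = 1 → a * a ≠ 1 → a * a ≠ γ 5 → ∀ c ∈ genW γ (m64.ws 0), c * (a * a) = a * a * c → c ∈ genW γ (m64.ws 1) :=
  g.tr (φ := .all 0 40 [] (.imp (.one (.mul (.mul (.l 40) (.l 40)) (.mul (.l 40) (.l 40)))) (.imp (.not (.one (.mul (.l 40) (.l 40)))) (.imp (.not (.eq (.mul (.l 40) (.l 40)) (.l 5))) (.all 0 41 [(.mul (.l 40) (.l 40), .mul (.l 40) (.l 40))] (.mem 1 (.l 41))))))) (by decide +kernel)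

theorem m64_k {G : Type*} [Group G] {γ : ℕ → G} (g : Gf m64 γ 0 []) :
    ∀ c ∈ genW γ (m64.ws 1), c * c = 1 → c ∉ genW γ (m64.ws 3) → ∀ d ∈ genW γ (m64.ws 1), d * d = γ 5 → (∃ g ∈ genW γ (m64.ws 0), g * c = γ 8 * g ∧ True) ∨ (∃ g ∈ genW γ (m64.ws 0), g * (d * c) = γ 4 * g ∧ True) ∨ (∃ g ∈ genW γ (m64.ws 0), g * (d * c) = γ 7 * g ∧ True) :=
  g.tr (φ := .all 1 40 [] (.imp (.one (.mul (.l 40) (.l 40))) (.imp (.not (.mem 3 (.l 40))) (.all 1 41 [] (.imp (.eq (.mul (.l 41) (.l 41)) (.l 5)) (.or (.ex 0 42 [(.l 40, .l 8)] (.tt)) (.or (.ex 0 42 [(.mul (.l 41) (.l 40), .l 4)] (.tt)) (.ex 0 42 [(.mul (.l 41) (.l 40), .l 7)] (.tt))))))))) (by decide +kernel)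

theorem m64_U {G : Type*} [Group G] {γ : ℕ → G} (g : Gf m64 γ 0 []) :
    ∀ a ∈ genW γ (m64.ws 1), a * γ 1 = γ 1 * a → a * γ 2 = γ 2 * a → a * γ 4 = γ 4 * a → a ∈ genW γ (m64.ws 3) :=
  g.tr (φ := .all 1 40 [(.l 1, .l 1), (.l 2, .l 2), (.l 4, .l 4)] (.mem 3 (.l 40))) (by decide +kernel)

theorem m64_z {G : Type*} [Group G] {γ : ℕ → G} (g : Gf m64 γ 0 []) :
    ∀ a ∈ genW γ (m64.ws 7), ∀ b ∈ genW γ (m64.ws 5), b * a * (b * a) ≠ 1 → b * a * (b * a) = γ 5 :=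
  g.tr (φ := .all 7 40 [] (.all 5 41 [] (.imp (.not (.one (.mul (.mul (.l 41) (.l 40)) (.mul (.l 41) (.l 40))))) (.eq (.mul (.mul (.l 41) (.l 40)) (.mul (.l 41) (.l 40))) (.l 5))))) (by decide +kernel)

theorem m64_T {G : Type*} [Group G] {γ : ℕ → G} (g : Gf m64 γ 0 []) :
    ∀ c ∈ genW γ (m64.ws 0), c * γ 6 = γ 6 * c → c ∈ genW γ (m64.ws 1) :=
  g.tr (φ := .all 0 40 [(.l 6, .l 6)] (.mem 1 (.l 40))) (by decide +kernel)

theorem m64_e1 {G : Type*} [Group G] {γ : ℕ → G} (g : Gf m64 γ 0 []) :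
    ∀ a ∈ genW γ (m64.ws 5), a = 1 ∨ a = γ 5 ∨ a ∈ genW γ (m64.ws 3) ∧ (∃ g ∈ genW γ (m64.ws 0), g * a = γ 6 * g ∧ True) ∨ a ∉ genW γ (m64.ws 3) ∧ (∃ g ∈ genW γ (m64.ws 0), g * a = γ 7 * g ∧ True) :=
  g.tr (φ := .all 5 40 [] (.or (.one (.l 40)) (.or (.eq (.l 40) (.l 5)) (.or (.and (.mem 3 (.l 40)) (.ex 0 41 [(.l 40, .l 6)] (.tt))) (.and (.not (.mem 3 (.l 40))) (.ex 0 41 [(.l 40, .l 7)] (.tt))))))) (by decide +kernel)

theorem m64_q1 {G : Type*} [Group G] {γ : ℕ → G} (g : Gf m64 γ 0 []) :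
    ∀ q ∈ genW γ (m64.ws 4), q * q = 1 → ∃ a ∈ genW γ (m64.ws 0), a * q = q * a ∧ a * a ≠ 1 :=
  g.tr (φ := .all 4 40 [] (.imp (.one (.mul (.l 40) (.l 40))) (.ex 0 41 [(.l 40, .l 40)] (.not (.one (.mul (.l 41) (.l 41))))))) (by decide +kernel)

theorem m64_q2 {G : Type*} [Group G] {γ : ℕ → G} (g : Gf m64 γ 0 []) :
    ∀ q ∈ genW γ (m64.ws 0), q * q = 1 → ∀ a ∈ genW γ (m64.ws 0), a * q = q * a → a * a ≠ 1 → q ∈ genW γ (m64.ws 4) :=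
  g.tr (φ := .all 0 40 [] (.imp (.one (.mul (.l 40) (.l 40))) (.all 0 41 [(.l 40, .l 40)] (.imp (.not (.one (.mul (.l 41) (.l 41)))) (.mem 4 (.l 40)))))) (by decide +kernel)

theorem m64_q3 {G : Type*} [Group G] {γ : ℕ → G} (g : Gf m64 γ 0 []) :
    ∀ q ∈ genW γ (m64.ws 0), q * q = 1 ∨ q * q = γ 5 → q ∈ genW γ (m64.ws 4) ∨ (∃ g ∈ genW γ (m64.ws 0), g * q = γ 8 * g ∧ True) :=
  g.tr (φ := .all 0 40 [] (.imp (.or (.one (.mul (.l 40) (.l 40))) (.eq (.mul (.l 40) (.l 40)) (.l 5))) (.or (.mem 4 (.l 40)) (.ex 0 41 [(.l 40, .l 8)] (.tt))))) (by decide +kernel)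

theorem m64_pure {G : Type*} [Group G] {γ : ℕ → G} (g : Gf m64 γ 0 []) :
    ∀ b ∈ genW γ (m64.ws 1), b * b = 1 → (b ∈ genW γ (m64.ws 7) → b ∈ genW γ (m64.ws 3)) → ∀ c ∈ genW γ (m64.ws 1), c * b = b * c → c * c = 1 → (c ∈ genW γ (m64.ws 7) → c ∈ genW γ (m64.ws 3)) → b ∈ genW γ (m64.ws 5) ∧ c ∈ genW γ (m64.ws 5) ∨ (∃ s ∈ genW γ (m64.ws 0), s * b * s⁻¹ ∈ genW γ (m64.ws 6) ∧ s * c * s⁻¹ ∈ genW γ (m64.ws 6)) :=
  g.tr (φ := .all 1 40 [] (.imp (.one (.mul (.l 40) (.l 40))) (.imp (.imp (.mem 7 (.l 40)) (.mem 3 (.l 40))) (.all 1 41 [(.l 40, .l 40)] (.imp (.one (.mul (.l 41) (.l 41))) (.imp (.imp (.mem 7 (.l 41)) (.mem 3 (.l 41))) (.or (.and (.mem 5 (.l 40)) (.mem 5 (.l 41))) (.ex 0 42 [] (.and (.mem 6 (.mul (.mul (.l 42) (.l 40)) (.inv (.l 42)))) (.mem 6 (.mul (.mul (.l 42) (.l 41)) (.inv (.l 42))))))))))))) (by decide +kernel)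

theorem m64_qE {G : Type*} [Group G] {γ : ℕ → G} (g : Gf m64 γ 0 []) :
    ∀ a ∈ genW γ (m64.ws 6), a ∈ genW γ (m64.ws 4) → a = 1 ∨ a = γ 5 ∨ a = γ 6 ∨ a = γ 6 * γ 5 :=
  g.tr (φ := .all 6 40 [] (.imp (.mem 4 (.l 40)) (.or (.one (.l 40)) (.or (.eq (.l 40) (.l 5)) (.or (.eq (.l 40) (.l 6)) (.eq (.l 40) (.mul (.l 6) (.l 5)))))))) (by decide +kernel)

theorem m64_qe {G : Type*} [Group G] {γ : ℕ → G} (g : Gf m64 γ 0 []) :
    ∀ a ∈ genW γ (m64.ws 4), a ∈ genW γ (m64.ws 1) → a * a = 1 → (a ∈ genW γ (m64.ws 7) → a ∈ genW γ (m64.ws 3)) → a ∈ genW γ (m64.ws 5) :=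
  g.tr (φ := .all 4 40 [] (.imp (.mem 1 (.l 40)) (.imp (.one (.mul (.l 40) (.l 40))) (.imp (.imp (.mem 7 (.l 40)) (.mem 3 (.l 40))) (.mem 5 (.l 40)))))) (by decide +kernel)

theorem m64_l1 {G : Type*} [Group G] {γ : ℕ → G} (g : Gf m64 γ 0 []) :
    ∀ q ∈ genW γ (m64.ws 4), q ∉ genW γ (m64.ws 5) → ∃ a ∈ genW γ (m64.ws 5), a * q = q * a ∧ a ≠ 1 ∧ a ≠ γ 5 ∧ (∀ b ∈ genW γ (m64.ws 5), b * q = q * b → b ≠ 1 → b ≠ γ 5 → b * a⁻¹ = 1 ∨ b * a⁻¹ = γ 5) :=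
  g.tr (φ := .all 4 40 [] (.imp (.not (.mem 5 (.l 40))) (.ex 5 41 [(.l 40, .l 40)] (.and (.not (.one (.l 41))) (.and (.not (.eq (.l 41) (.l 5))) (.all 5 42 [(.l 40, .l 40)] (.imp (.not (.one (.l 42))) (.imp (.not (.eq (.l 42) (.l 5))) (.or (.one (.mul (.l 42) (.inv (.l 41)))) (.eq (.mul (.l 42) (.inv (.l 41))) (.l 5))))))))))) (by decide +kernel)

theorem m64_l2 {G : Type*} [Group G] {γ : ℕ → G} (g : Gf m64 γ 0 []) :
    ∀ a ∈ genW γ (m64.ws 5), a ≠ 1 → a ≠ γ 5 → ∀ b ∈ genW γ (m64.ws 5), ∀ c ∈ genW γ (m64.ws 5), (b = 1 ∨ b = γ 5 ∨ b = a ∨ b = a * γ 5) ∨ (c = 1 ∨ c = γ 5 ∨ c = a ∨ c = a * γ 5) ∨ c * b⁻¹ = 1 ∨ c * b⁻¹ = γ 5 ∨ c * b⁻¹ = a ∨ c * b⁻¹ = a * γ 5 :=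
  g.tr (φ := .all 5 40 [] (.imp (.not (.one (.l 40))) (.imp (.not (.eq (.l 40) (.l 5))) (.all 5 41 [] (.all 5 42 [] (.or (.or (.one (.l 41)) (.or (.eq (.l 41) (.l 5)) (.or (.eq (.l 41) (.l 40)) (.eq (.l 41) (.mul (.l 40) (.l 5)))))) (.or (.or (.one (.l 42)) (.or (.eq (.l 42) (.l 5)) (.or (.eq (.l 42) (.l 40)) (.eq (.l 42) (.mul (.l 40) (.l 5)))))) (.or (.one (.mul (.l 42) (.inv (.l 41)))) (.or (.eq (.mul (.l 42) (.inv (.l 41))) (.l 5)) (.or (.eq (.mul (.l 42) (.inv (.l 41))) (.l 40)) (.eq (.mul (.l 42) (.inv (.l 41))) (.mul (.l 40) (.l 5))))))))))))) (by decide +kernel)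

theorem m64_l3 {G : Type*} [Group G] {γ : ℕ → G} (g : Gf m64 γ 0 []) :
    ∀ q ∈ genW γ (m64.ws 4), q * γ 6 = γ 6 * q → q * γ 7 = γ 7 * q → q ∈ genW γ (m64.ws 5) :=
  g.tr (φ := .all 4 40 [(.l 6, .l 6), (.l 7, .l 7)] (.mem 5 (.l 40))) (by decide +kernel)

theorem m64_sq {G : Type*} [Group G] {γ : ℕ → G} (g : Gf m64 γ 0 []) :
    ∀ q ∈ genW γ (m64.ws 4), q * q = 1 ∨ q * q = γ 5 :=
  g.tr (φ := .all 4 40 [] (.or (.one (.mul (.l 40) (.l 40))) (.eq (.mul (.l 40) (.l 40)) (.l 5)))) (by decide +kernel)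

theorem m64_cQ {G : Type*} [Group G] {γ : ℕ → G} (g : Gf m64 γ 0 []) :
    ∀ a ∈ genW γ (m64.ws 0), a * γ 6 = γ 6 * a → a * γ 3 = γ 3 * a → a * γ 4 = γ 4 * a → a * γ 7 = γ 7 * a → a = 1 ∨ a = γ 5 :=
  g.tr (φ := .all 0 40 [(.l 6, .l 6), (.l 3, .l 3), (.l 4, .l 4), (.l 7, .l 7)] (.or (.one (.l 40)) (.eq (.l 40) (.l 5)))) (by decide +kernel)

theorem m64_s1 {G : Type*} [Group G] {γ : ℕ → G} (g : Gf m64 γ 0 []) :
    ∀ a ∈ genW γ (m64.ws 3), ∃ s ∈ genW γ (m64.ws 0), s * s = a :=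
  g.tr (φ := .all 3 40 [] (.ex 0 41 [] (.eq (.mul (.l 41) (.l 41)) (.l 40)))) (by decide +kernel)

theorem m64_s2 {G : Type*} [Group G] {γ : ℕ → G} (g : Gf m64 γ 0 []) :
    ∀ s ∈ genW γ (m64.ws 0), s * s ≠ γ 7 :=
  g.tr (φ := .all 0 40 [] (.not (.eq (.mul (.l 40) (.l 40)) (.l 7)))) (by decide +kernel)

theorem m64_e2 {G : Type*} [Group G] {γ : ℕ → G} (g : Gf m64 γ 0 []) :
    ∀ a ∈ genW γ (m64.ws 5), a * a = 1 :=
  g.tr (φ := .all 5 40 [] (.one (.mul (.l 40) (.l 40)))) (by decide +kernel)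

theorem m64_e3 {G : Type*} [Group G] {γ : ℕ → G} (g : Gf m64 γ 0 []) :
    ∀ a ∈ genW γ (m64.ws 6), a * a = 1 :=
  g.tr (φ := .all 6 40 [] (.one (.mul (.l 40) (.l 40)))) (by decide +kernel)

theorem m64_e4 {G : Type*} [Group G] {γ : ℕ → G} (g : Gf m64 γ 0 []) :
    ∀ a ∈ genW γ (m64.ws 7), a * a = 1 :=
  g.tr (φ := .all 7 40 [] (.one (.mul (.l 40) (.l 40)))) (by decide +kernel)

theorem m64_mz {G : Type*} [Group G] {γ : ℕ → G} (g : Gf m64 γ 0 []) :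
    ∀ s ∈ genW γ (m64.ws 0), s * s = 1 → s ≠ 1 → s ≠ γ 5 → ∃ g ∈ genW γ (m64.ws 0), g * s = s * γ 5 * g ∧ True :=
  g.tr (φ := .all 0 40 [] (.imp (.one (.mul (.l 40) (.l 40))) (.imp (.not (.one (.l 40))) (.imp (.not (.eq (.l 40) (.l 5))) (.ex 0 41 [(.l 40, .mul (.l 40) (.l 5))] (.tt)))))) (by decide +kernel)

theorem m64_iT {G : Type*} [Group G] {γ : ℕ → G} (g : Gf m64 γ 0 []) :
    ∀ a ∈ genW γ (m64.ws 0), ∀ b ∈ genW γ (m64.ws 0), a ∉ genW γ (m64.ws 1) → b ∉ genW γ (m64.ws 1) → a * b ∈ genW γ (m64.ws 1) :=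
  g.tr (φ := .all 0 40 [] (.all 0 41 [] (.imp (.not (.mem 1 (.l 40))) (.imp (.not (.mem 1 (.l 41))) (.mem 1 (.mul (.l 40) (.l 41))))))) (by decide +kernel)

variable {G : Type*} [Group G] {S : Subgroup G} {x y t u : G}

/-- The letters of the model. -/
def gm (x y t u : G) : ℕ → G
  | 1 => x
  | 2 => y
  | 3 => t
  | 4 => u
  | 5 => we x y (2 ^ (0 + 1)) (2 ^ (0 + 1))
  | 6 => we x y (2 ^ (0 + 1)) 0
  | 7 => we x y 1 1 * u
  | 8 => x * u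
  | _ => 1

theorem gt0 (x4 : x ^ 4 = 1) (x2 : x ^ 2 ≠ 1) (ne : x ^ 2 ≠ y ^ 2) (c : x * y = y * x) (tt : t * t = 1)
    (e : t * x * t⁻¹ = y) (uu : u * u = 1) (ux : u * x * u⁻¹ = x⁻¹) (ut : u * t = t * u) :
    GT (zpowers x ⊔ zpowers y ⊔ zpowers t ⊔ zpowers u) x y t u 0 := by
  have o : orderOf x = 2 ^ (1 + 1) := orderOf_eq_prime_pow (by simpa using x2) x4
  have y4 : y ^ 4 = 1 := by rw [← e, conj_pow, x4]; simp
  have key : ∀ {a x : G}, x ^ 4 = 1 → a ∈ zpowers x → a = 1 ∨ a = x ^ 2 ∨ a ^ 2 = x ^ 2 := fun {a x} h ha => by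
    obtain ⟨k, rfl⟩ := mem_zpowers_iff.1 ha
    rw [zpow_eq_zpow_emod' k h]
    have h3 : (x ^ 3) ^ 2 = x ^ 2 := by rw [← pow_mul, show 3 * 2 = 4 + 2 from rfl, pow_add, h, one_mul]
    rcases (by omega : k % (4 : ℕ) = (0 : ℕ) ∨ k % (4 : ℕ) = (1 : ℕ) ∨ k % (4 : ℕ) = (2 : ℕ) ∨ k % (4 : ℕ) = (3 : ℕ))
      with e | e | e | e <;> rw [e, zpow_natCast] <;> simp [h3]
  refine ⟨⟨o, c, eq_bot_iff.2 fun a ha => ?_, tt, e, rfl⟩, uu, ux, ut, rfl⟩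
  have y2 : y ^ 2 ≠ 1 := by rw [← e, conj_pow]; simpa using x2
  have hx : (x ^ 2) ^ 2 = 1 := by rw [← pow_mul]; exact x4
  have hy : (y ^ 2) ^ 2 = 1 := by rw [← pow_mul]; exact y4
  rcases key x4 ha.1 with e1 | e1 | e1 <;> rcases key y4 ha.2 with e2 | e2 | e2 <;> simp_all

theorem m64_ws0 : m64.ws 0 = [.l 1, .l 2, .l 3, .l 4, .l 5, .l 6, .l 7, .l 8] := rfl

theorem GT.genW_gm (h : GT S x y t u 0) : genW (gm x y t u) (m64.ws 0) = S :=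
  le_antisymm (genW_le.2 (by
    simp only [m64_ws0, List.forall_mem_cons]
    exact ⟨h.x_mem, h.y_mem, h.t_mem, h.u_mem, h.we_mem _ _, h.we_mem _ _, mul_mem (h.we_mem _ _) h.u_mem,
      mul_mem h.x_mem h.u_mem, nil_all⟩))
    (h.le_of (mem_genW _ (t := .l 1) (by simp [m64_ws0])) (mem_genW _ (t := .l 3) (by simp [m64_ws0]))
      (mem_genW _ (t := .l 4) (by simp [m64_ws0])))

theorem we_two (x y : G) : we x y (2 ^ (0 + 1)) (2 ^ (0 + 1)) = x ^ 2 * y ^ 2 := by simp [we, zpow_ofNat]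
theorem we_two' (x y : G) : we x y (2 ^ (0 + 1)) 0 = x ^ 2 := by simp [we, zpow_ofNat]
theorem we_one (x y : G) : we x y 1 1 = x * y := by simp [we]

theorem GT.gf [Finite G] (h : GT S x y t u 0) : Gf m64 (gm x y t u) 0 [] := by
  have g := Gf.of_isoW m64_ok (IsoW.refl _) 0
  have x2 : x ^ 2 ≠ 1 := we_two' x y ▸ h.wr.half_ne_one 0
  have P := gt0 (x := (x, m64.gam 1)) (y := (y, m64.gam 2)) (t := (t, m64.gam 3)) (u := (u, m64.gam 4))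
    (Prod.ext (by simpa [h.wr.ord] using pow_orderOf_eq_one x) (g.eq : m64.gam 1 ^ 4 = 1))
    (fun e => x2 (congrArg Prod.fst e)) (fun e => (g.ne : m64.gam 1 ^ 2 ≠ m64.gam 2 ^ 2) (congrArg Prod.snd e))
    (Prod.ext h.wr.comm (g.eq : m64.gam 1 * m64.gam 2 = m64.gam 2 * m64.gam 1))
    (Prod.ext h.wr.tt (g.eq : m64.gam 3 * m64.gam 3 = 1))
    (Prod.ext h.wr.conj (g.eq : m64.gam 3 * m64.gam 1 * (m64.gam 3)⁻¹ = m64.gam 2))
    (Prod.ext h.uu (g.eq : m64.gam 4 * m64.gam 4 = 1))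
    (Prod.ext h.ux (g.eq : m64.gam 4 * m64.gam 1 * (m64.gam 4)⁻¹ = (m64.gam 1)⁻¹))
    (Prod.ext h.ut (g.eq : m64.gam 4 * m64.gam 3 = m64.gam 3 * m64.gam 4))
  have b : Nat.card (Dg m64 (gm x y t u) 0) ≠ 0 ∧ Nat.card (Dg m64 (gm x y t u) 0) ≤ 64 :=
    ⟨Nat.card_pos.ne', (card_le_of_le (pair_genW_le (by
      have m := genW_le.1 P.genW_gm.le
      simp only [m64_ws0, List.forall_mem_cons] at m ⊢
      obtain ⟨m1, m2, m3, m4, m5, m6, m7, m8, -⟩ := m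
      refine ⟨m1, m2, m3, m4, ?_, ?_, ?_, ?_, nil_all⟩
      · rw [ev_l, gm, we_two] at m5
        rwa [ev_l, ev_l, gm, we_two, (g.eq : m64.gam 5 = m64.gam 1 ^ 2 * m64.gam 2 ^ 2)]
      · rw [ev_l, gm, we_two'] at m6
        rwa [ev_l, ev_l, gm, we_two', (g.eq : m64.gam 6 = m64.gam 1 ^ 2)]
      · rw [ev_l, gm, we_one] at m7
        rwa [ev_l, ev_l, gm, we_one, (g.eq : m64.gam 7 = m64.gam 1 * m64.gam 2 * m64.gam 4)]
      · rwa [ev_l, ev_l, (g.eq : m64.gam 8 = m64.gam 1 * m64.gam 4)]))).trans P.card_eq.le⟩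
  exact ⟨m64_ok, rfl, fun p hp => ⟨fst_inj b (fun _ => exists_snd) (h.genW_gm.symm ▸ h.card_eq.ge) p hp,
    snd_inj b (fun _ => exists_fst) m64_card0.ge p hp⟩, nil_all⟩

end Cfsg.Lib.GH
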