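import Cfsg.Agent.Lib.GH.F8a

/-! Models for the groups of `Lib.GH.F8a`: letters `f s a b`. -/

set_option autoImplicit false
set_option maxRecDepth 100000

namespace Cfsg.Lib.GH

open Cfsg.Lib.Calc Cfsg.Lib.T2 Cfsg.Lib.T3 Subgroup

def f8m000_L0 : List (ℕ × List ℕ) := [((nat_lit 0), [(nat_lit 16434824), (nat_lit 2054353), (nat_lit 14038087), (nat_lit 2353946), (nat_lit 989653), (nat_lit 13006147), (nat_lit 11641406), (nat_lit 15370124)]),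
  ((nat_lit 1), [(nat_lit 16434824), (nat_lit 7917224), (nat_lit 2739128), (nat_lit 11256728)]),
  ((nat_lit 2), [(nat_lit 16434824), (nat_lit 6999944)])]

def f8m000_D0 : List ℕ := [(nat_lit 0), (nat_lit 513), (nat_lit 769), (nat_lit 49666), (nat_lit 56322), (nat_lit 72706), (nat_lit 79618), (nat_lit 111362), (nat_lit 0), (nat_lit 1025), (nat_lit 1537), (nat_lit 230914), (nat_lit 0), (nat_lit 2049)]

def f8m000 : PM :=
  ⟨(nat_lit 8), (nat_lit 3), [(nat_lit 2054353), (nat_lit 7917224), (nat_lit 2739128), (nat_lit 6999944)],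
    [[.l 1, .l 2, .l 3, .l 4]],
    [f8m000_L0], [f8m000_D0]⟩

instance f8m000_ne : NeZero f8m000.n := ⟨by decide⟩

theorem f8m000_ok0 : f8m000.ok0 = true := by decide +kernel

theorem f8m000_k0 : allFrom (nat_lit 0) (nat_lit 1) f8m000.okK = true := by decide +kernel

theorem f8m000_ok : f8m000.OK := PM.OK.of_check f8m000_ok0
  (of_allFrom_append of_lt_zero f8m000_k0)

theorem f8m000_card0 : Nat.card (genW f8m000.gam (f8m000.ws 0)) = 64 := (f8m000_ok.card 0).trans (by decide +kernel)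

theorem f8m000_uni {G : Type*} [Group G] {γ : ℕ → G} (g : Gf f8m000 γ 0 []) :
    (∀ c ∈ genW γ (f8m000.ws 0), c * c = 1 → c ≠ 1 → c ≠ γ 1 ^ 4 → (∃ g ∈ genW γ (f8m000.ws 0), g * c = c * γ 1 ^ 4 * g ∧ True) ∧ ((∃ g ∈ genW γ (f8m000.ws 0), g * c = γ 2 * g ∧ True) ∨ (∃ r ∈ genW γ (f8m000.ws 0), r * c = c * r ∧ r * r = γ 1 ^ 4) ∨ c * γ 2 = γ 2 * c ∧ (∃ g ∈ genW γ (f8m000.ws 0), g * c = γ 2 * c * g ∧ True))) ∧ (∀ c ∈ genW γ (f8m000.ws 0), c * c * (c * c) = 1 → c * c = 1 ∨ c * c = γ 1 ^ 4 ∨ (∃ g ∈ genW γ (f8m000.ws 0), g * (c * c) = γ 2 * g ∧ True)) :=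
  g.tr (φ := .and (.all 0 40 [] (.imp (.one (.mul (.l 40) (.l 40))) (.imp (.not (.one (.l 40))) (.imp (.not (.eq (.l 40) (.pow (.l 1) 4))) (.and (.ex 0 41 [(.l 40, .mul (.l 40) (.pow (.l 1) 4))] (.tt)) (.or (.ex 0 41 [(.l 40, .l 2)] (.tt)) (.or (.ex 0 41 [(.l 40, .l 40)] (.eq (.mul (.l 41) (.l 41)) (.pow (.l 1) 4))) (.and (.eq (.mul (.l 40) (.l 2)) (.mul (.l 2) (.l 40))) (.ex 0 41 [(.l 40, .mul (.l 2) (.l 40))] (.tt)))))))))) (.all 0 40 [] (.imp (.one (.mul (.mul (.l 40) (.l 40)) (.mul (.l 40) (.l 40)))) (.or (.one (.mul (.l 40) (.l 40))) (.or (.eq (.mul (.l 40) (.l 40)) (.pow (.l 1) 4)) (.ex 0 41 [(.mul (.l 40) (.l 40), .l 2)] (.tt))))))) (by decide +kernel)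

def f8m001_L0 : List (ℕ × List ℕ) := [((nat_lit 0), [(nat_lit 0xfedcba9876543210), (nat_lit 0x10fedcba98765432), (nat_lit 0x23456789abcdef01), (nat_lit 0xdcba9876543210fe), (nat_lit 0x3210fedcba987654), (nat_lit 0x1076dc3298fe54ba), (nat_lit 0x123456789abcdef), (nat_lit 0x456789abcdef0123), (nat_lit 0x27c1e38daf496b05), (nat_lit 0xdc3298fe54ba1076), (nat_lit 0xba9876543210fedc), (nat_lit 0xef0123456789abcd), (nat_lit 0x1ab45ef8923cd67), (nat_lit 0xfe54ba1076dc3298), (nat_lit 0x527c1e38daf496b), (nat_lit 0x6b0527c1e38daf49)]),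
  ((nat_lit 2), [(nat_lit 0xfedcba9876543210), (nat_lit 0x76dc3298fe54ba10)]),
  ((nat_lit 1), [(nat_lit 0xfedcba9876543210), (nat_lit 0xb694fad83e1c7250)])]

def f8m001_D0 : List ℕ := [(nat_lit 0), (nat_lit 513), (nat_lit 1537), (nat_lit 769), (nat_lit 55810), (nat_lit 62466), (nat_lit 69122), (nat_lit 86530), (nat_lit 95234), (nat_lit 115714), (nat_lit 123650), (nat_lit 148994), (nat_lit 175618), (nat_lit 185090), (nat_lit 216066), (nat_lit 329730), (nat_lit 0), (nat_lit 1025), (nat_lit 0), (nat_lit 2049)]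

def f8m001 : PM :=
  ⟨(nat_lit 16), (nat_lit 4), [(nat_lit 0x10fedcba98765432), (nat_lit 0x76dc3298fe54ba10), (nat_lit 0x23456789abcdef01), (nat_lit 0xb694fad83e1c7250)],
    [[.l 1, .l 2, .l 3, .l 4]],
    [f8m001_L0], [f8m001_D0]⟩

instance f8m001_ne : NeZero f8m001.n := ⟨by decide⟩

theorem f8m001_ok0 : f8m001.ok0 = true := by decide +kernel

theorem f8m001_k0 : allFrom (nat_lit 0) (nat_lit 1) f8m001.okK = true := by decide +kernel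

theorem f8m001_ok : f8m001.OK := PM.OK.of_check f8m001_ok0
  (of_allFrom_append of_lt_zero f8m001_k0)

theorem f8m001_card0 : Nat.card (genW f8m001.gam (f8m001.ws 0)) = 64 := (f8m001_ok.card 0).trans (by decide +kernel)

theorem f8m001_uni {G : Type*} [Group G] {γ : ℕ → G} (g : Gf f8m001 γ 0 []) :
    (∀ c ∈ genW γ (f8m001.ws 0), c * c = 1 → c ≠ 1 → c ≠ γ 1 ^ 4 → (∃ g ∈ genW γ (f8m001.ws 0), g * c = c * γ 1 ^ 4 * g ∧ True) ∧ ((∃ g ∈ genW γ (f8m001.ws 0), g * c = γ 2 * g ∧ True) ∨ (∃ r ∈ genW γ (f8m001.ws 0), r * c = c * r ∧ r * r = γ 1 ^ 4) ∨ c * γ 2 = γ 2 * c ∧ (∃ g ∈ genW γ (f8m001.ws 0), g * c = γ 2 * c * g ∧ True))) ∧ (∀ c ∈ genW γ (f8m001.ws 0), c * c * (c * c) = 1 → c * c = 1 ∨ c * c = γ 1 ^ 4 ∨ (∃ g ∈ genW γ (f8m001.ws 0), g * (c * c) = γ 2 * g ∧ True)) :=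
  g.tr (φ := .and (.all 0 40 [] (.imp (.one (.mul (.l 40) (.l 40))) (.imp (.not (.one (.l 40))) (.imp (.not (.eq (.l 40) (.pow (.l 1) 4))) (.and (.ex 0 41 [(.l 40, .mul (.l 40) (.pow (.l 1) 4))] (.tt)) (.or (.ex 0 41 [(.l 40, .l 2)] (.tt)) (.or (.ex 0 41 [(.l 40, .l 40)] (.eq (.mul (.l 41) (.l 41)) (.pow (.l 1) 4))) (.and (.eq (.mul (.l 40) (.l 2)) (.mul (.l 2) (.l 40))) (.ex 0 41 [(.l 40, .mul (.l 2) (.l 40))] (.tt)))))))))) (.all 0 40 [] (.imp (.one (.mul (.mul (.l 40) (.l 40)) (.mul (.l 40) (.l 40)))) (.or (.one (.mul (.l 40) (.l 40))) (.or (.eq (.mul (.l 40) (.l 40)) (.pow (.l 1) 4)) (.ex 0 41 [(.mul (.l 40) (.l 40), .l 2)] (.tt))))))) (by decide +kernel)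

theorem f8m001_p4 {G : Type*} [Group G] {γ : ℕ → G} (g : Gf f8m001 γ 0 []) :
    ∀ c ∈ genW γ (f8m001.ws 0), c ^ 4 = 1 ∨ c ^ 4 = γ 1 ^ 4 :=
  g.tr (φ := .all 0 40 [] (.or (.one (.pow (.l 40) 4)) (.eq (.pow (.l 40) 4) (.pow (.l 1) 4)))) (by decide +kernel)

def f8m010_L0 : List (ℕ × List ℕ) := [((nat_lit 0), [(nat_lit 0xfedcba9876543210), (nat_lit 0x10fedcba98765432), (nat_lit 0xe7c52b096f4da381), (nat_lit 0xdcba9876543210fe), (nat_lit 0x6f4da381e7c52b09), (nat_lit 0x3210fedcba987654), (nat_lit 0x1076dc3298fe54ba), (nat_lit 0x81e7c52b096f4da3), (nat_lit 0x96f4da381e7c52b), (nat_lit 0x76543210fedcba98), (nat_lit 0xc5a309e74d2b816f), (nat_lit 0xdc3298fe54ba1076), (nat_lit 0xc52b096f4da381e7), (nat_lit 0xba9876543210fedc), (nat_lit 0xa381e7c52b096f4d), (nat_lit 0x2b096f4da381e7c5)]),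
  ((nat_lit 2), [(nat_lit 0xfedcba9876543210), (nat_lit 0x76dc3298fe54ba10), (nat_lit 0x32547698badcfe10), (nat_lit 0xba54fe9832dc7610)])]

def f8m010_D0 : List ℕ := [(nat_lit 0), (nat_lit 513), (nat_lit 2049), (nat_lit 769), (nat_lit 2305), (nat_lit 61954), (nat_lit 68610), (nat_lit 75778), (nat_lit 82178), (nat_lit 102402), (nat_lit 108290), (nat_lit 132098), (nat_lit 141314), (nat_lit 148226), (nat_lit 196610), (nat_lit 207106), (nat_lit 0), (nat_lit 1025), (nat_lit 1537), (nat_lit 542210)]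

def f8m010_L1 : List (ℕ × List ℕ) := [((nat_lit 0), [(nat_lit 0xfedcba9876543210), (nat_lit 0x10fedcba98765432), (nat_lit 0xe7c52b096f4da381), (nat_lit 0xdcba9876543210fe), (nat_lit 0x6f4da381e7c52b09), (nat_lit 0x3210fedcba987654), (nat_lit 0x1076dc3298fe54ba), (nat_lit 0x81e7c52b096f4da3), (nat_lit 0x96f4da381e7c52b), (nat_lit 0x76543210fedcba98), (nat_lit 0xc5a309e74d2b816f), (nat_lit 0xdc3298fe54ba1076), (nat_lit 0xc52b096f4da381e7), (nat_lit 0xba9876543210fedc), (nat_lit 0xa381e7c52b096f4d), (nat_lit 0x2b096f4da381e7c5)]),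
  ((nat_lit 2), [(nat_lit 0xfedcba9876543210), (nat_lit 0x76dc3298fe54ba10)])]

def f8m010_D1 : List ℕ := [(nat_lit 0), (nat_lit 513), (nat_lit 1537), (nat_lit 769), (nat_lit 1793), (nat_lit 46594), (nat_lit 52226), (nat_lit 57858), (nat_lit 63234), (nat_lit 81410), (nat_lit 86786), (nat_lit 108546), (nat_lit 116226), (nat_lit 122626), (nat_lit 167426), (nat_lit 176898), (nat_lit 0), (nat_lit 1025)]

def f8m010 : PM :=
  ⟨(nat_lit 16), (nat_lit 4), [(nat_lit 0x10fedcba98765432), (nat_lit 0x76dc3298fe54ba10), (nat_lit 0x32547698badcfe10), (nat_lit 0xe7c52b096f4da381)],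
    [[.l 1, .l 2, .l 3, .l 4],
    [.l 1, .l 2, .l 4]],
    [f8m010_L0, f8m010_L1], [f8m010_D0, f8m010_D1]⟩

instance f8m010_ne : NeZero f8m010.n := ⟨by decide⟩

theorem f8m010_ok0 : f8m010.ok0 = true := by decide +kernel

theorem f8m010_k0 : allFrom (nat_lit 0) (nat_lit 1) f8m010.okK = true := by decide +kernel

theorem f8m010_k1 : allFrom (nat_lit 1) (nat_lit 1) f8m010.okK = true := by decide +kernel

theorem f8m010_ok : f8m010.OK := PM.OK.of_check f8m010_ok0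
  (of_allFrom_append (of_allFrom_append of_lt_zero f8m010_k0) f8m010_k1)

theorem f8m010_card0 : Nat.card (genW f8m010.gam (f8m010.ws 0)) = 64 := (f8m010_ok.card 0).trans (by decide +kernel)

theorem f8m010_card1 : Nat.card (genW f8m010.gam (f8m010.ws 1)) = 32 := (f8m010_ok.card 1).trans (by decide +kernel)

theorem f8m010_uni {G : Type*} [Group G] {γ : ℕ → G} (g : Gf f8m010 γ 0 []) :
    (∀ c ∈ genW γ (f8m010.ws 0), c * c = 1 → c ≠ 1 → c ≠ γ 1 ^ 4 → (∃ g ∈ genW γ (f8m010.ws 0), g * c = c * γ 1 ^ 4 * g ∧ True) ∧ ((∃ g ∈ genW γ (f8m010.ws 0), g * c = γ 2 * g ∧ True) ∨ (∃ r ∈ genW γ (f8m010.ws 0), r * c = c * r ∧ r * r = γ 1 ^ 4) ∨ c * γ 2 = γ 2 * c ∧ (∃ g ∈ genW γ (f8m010.ws 0), g * c = γ 2 * c * g ∧ True))) ∧ (∀ c ∈ genW γ (f8m010.ws 0), c * c * (c * c) = 1 → c * c = 1 ∨ c * c = γ 1 ^ 4 ∨ (∃ g ∈ genW γ (f8m010.ws 0), g * (c * c) = γ 2 * g ∧ True)) :=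
  g.tr (φ := .and (.all 0 40 [] (.imp (.one (.mul (.l 40) (.l 40))) (.imp (.not (.one (.l 40))) (.imp (.not (.eq (.l 40) (.pow (.l 1) 4))) (.and (.ex 0 41 [(.l 40, .mul (.l 40) (.pow (.l 1) 4))] (.tt)) (.or (.ex 0 41 [(.l 40, .l 2)] (.tt)) (.or (.ex 0 41 [(.l 40, .l 40)] (.eq (.mul (.l 41) (.l 41)) (.pow (.l 1) 4))) (.and (.eq (.mul (.l 40) (.l 2)) (.mul (.l 2) (.l 40))) (.ex 0 41 [(.l 40, .mul (.l 2) (.l 40))] (.tt)))))))))) (.all 0 40 [] (.imp (.one (.mul (.mul (.l 40) (.l 40)) (.mul (.l 40) (.l 40)))) (.or (.one (.mul (.l 40) (.l 40))) (.or (.eq (.mul (.l 40) (.l 40)) (.pow (.l 1) 4)) (.ex 0 41 [(.mul (.l 40) (.l 40), .l 2)] (.tt))))))) (by decide +kernel)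

theorem f8m010_R {G : Type*} [Group G] {γ : ℕ → G} (g : Gf f8m010 γ 0 []) :
    (∀ c ∈ genW γ (f8m010.ws 0), ∀ d ∈ genW γ (f8m010.ws 0), c ∉ genW γ (f8m010.ws 1) → d ∉ genW γ (f8m010.ws 1) → c * d ∈ genW γ (f8m010.ws 1)) ∧ (∀ c ∈ genW γ (f8m010.ws 1), c * c = 1 → c = 1 ∨ c = γ 1 ^ 4 ∨ (∃ g ∈ genW γ (f8m010.ws 0), g * c = γ 2 * g ∧ True)) :=
  g.tr (φ := .and (.all 0 40 [] (.all 0 41 [] (.imp (.not (.mem 1 (.l 40))) (.imp (.not (.mem 1 (.l 41))) (.mem 1 (.mul (.l 40) (.l 41))))))) (.all 1 40 [] (.imp (.one (.mul (.l 40) (.l 40))) (.or (.one (.l 40)) (.or (.eq (.l 40) (.pow (.l 1) 4)) (.ex 0 41 [(.l 40, .l 2)] (.tt))))))) (by decide +kernel)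

def f8m011_L0 : List (ℕ × List ℕ) := [((nat_lit 0), [(nat_lit 0xfedcba9876543210), (nat_lit 0xf2edcba98176543), (nat_lit 0x973d0b8562fc4ea1), (nat_lit 0xecba987643210d5f), (nat_lit 0x52c4a1f9e783d60b), (nat_lit 0x305f2edcba498176), (nat_lit 0x82e43ba5f1769dc), (nat_lit 0x19e73d0b85a62fc4), (nat_lit 0xb562c4a1f90e783d), (nat_lit 0x9bf407c5e138d6a2), (nat_lit 0x8643105f2e9dc7ba), (nat_lit 0x740bf9623dea1c85), (nat_lit 0xe3ba5f76dc210498), (nat_lit 0x7d0b8562c4ea13f9), (nat_lit 0xca98764310d5fb2e), (nat_lit 0x518da2396bcf4e07)]),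
  ((nat_lit 3), [(nat_lit 0xfedcba9876543210), (nat_lit 0x8e43ba5f769dc210), (nat_lit 0x36487a9cbe5df120), (nat_lit 0xc6df7a53be948120)])]

def f8m011_D0 : List ℕ := [(nat_lit 0), (nat_lit 513), (nat_lit 2049), (nat_lit 769), (nat_lit 2305), (nat_lit 61954), (nat_lit 68610), (nat_lit 75778), (nat_lit 82178), (nat_lit 101890), (nat_lit 109570), (nat_lit 115458), (nat_lit 140290), (nat_lit 149506), (nat_lit 156418), (nat_lit 185858), (nat_lit 0), (nat_lit 1025), (nat_lit 1537), (nat_lit 542210)]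

def f8m011 : PM :=
  ⟨(nat_lit 16), (nat_lit 4), [(nat_lit 0xf2edcba98176543), (nat_lit 0x8e43ba5f769dc210), (nat_lit 0x36487a9cbe5df120), (nat_lit 0x973d0b8562fc4ea1)],
    [[.l 1, .l 2, .l 3, .l 4]],
    [f8m011_L0], [f8m011_D0]⟩

instance f8m011_ne : NeZero f8m011.n := ⟨by decide⟩

theorem f8m011_ok0 : f8m011.ok0 = true := by decide +kernel

theorem f8m011_k0 : allFrom (nat_lit 0) (nat_lit 1) f8m011.okK = true := by decide +kernel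

theorem f8m011_ok : f8m011.OK := PM.OK.of_check f8m011_ok0
  (of_allFrom_append of_lt_zero f8m011_k0)

theorem f8m011_card0 : Nat.card (genW f8m011.gam (f8m011.ws 0)) = 64 := (f8m011_ok.card 0).trans (by decide +kernel)

theorem f8m011_uni {G : Type*} [Group G] {γ : ℕ → G} (g : Gf f8m011 γ 0 []) :
    (∀ c ∈ genW γ (f8m011.ws 0), c * c = 1 → c ≠ 1 → c ≠ γ 1 ^ 4 → (∃ g ∈ genW γ (f8m011.ws 0), g * c = c * γ 1 ^ 4 * g ∧ True) ∧ ((∃ g ∈ genW γ (f8m011.ws 0), g * c = γ 2 * g ∧ True) ∨ (∃ r ∈ genW γ (f8m011.ws 0), r * c = c * r ∧ r * r = γ 1 ^ 4) ∨ c * γ 2 = γ 2 * c ∧ (∃ g ∈ genW γ (f8m011.ws 0), g * c = γ 2 * c * g ∧ True))) ∧ (∀ c ∈ genW γ (f8m011.ws 0), c * c * (c * c) = 1 → c * c = 1 ∨ c * c = γ 1 ^ 4 ∨ (∃ g ∈ genW γ (f8m011.ws 0), g * (c * c) = γ 2 * g ∧ True)) :=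
  g.tr (φ := .and (.all 0 40 [] (.imp (.one (.mul (.l 40) (.l 40))) (.imp (.not (.one (.l 40))) (.imp (.not (.eq (.l 40) (.pow (.l 1) 4))) (.and (.ex 0 41 [(.l 40, .mul (.l 40) (.pow (.l 1) 4))] (.tt)) (.or (.ex 0 41 [(.l 40, .l 2)] (.tt)) (.or (.ex 0 41 [(.l 40, .l 40)] (.eq (.mul (.l 41) (.l 41)) (.pow (.l 1) 4))) (.and (.eq (.mul (.l 40) (.l 2)) (.mul (.l 2) (.l 40))) (.ex 0 41 [(.l 40, .mul (.l 2) (.l 40))] (.tt)))))))))) (.all 0 40 [] (.imp (.one (.mul (.mul (.l 40) (.l 40)) (.mul (.l 40) (.l 40)))) (.or (.one (.mul (.l 40) (.l 40))) (.or (.eq (.mul (.l 40) (.l 40)) (.pow (.l 1) 4)) (.ex 0 41 [(.mul (.l 40) (.l 40), .l 2)] (.tt))))))) (by decide +kernel)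

theorem f8m011_p4 {G : Type*} [Group G] {γ : ℕ → G} (g : Gf f8m011 γ 0 []) :
    ∀ c ∈ genW γ (f8m011.ws 0), c ^ 4 = 1 ∨ c ^ 4 = γ 1 ^ 4 :=
  g.tr (φ := .all 0 40 [] (.or (.one (.pow (.l 40) 4)) (.eq (.pow (.l 40) 4) (.pow (.l 1) 4)))) (by decide +kernel)

def f8m100_L0 : List (ℕ × List ℕ) := [((nat_lit 0), [(nat_lit 0xfedcba9876543210), (nat_lit 0x10fedcba98765432), (nat_lit 0xa3c5e7092b4d6f81), (nat_lit 0xdcba9876543210fe), (nat_lit 0x2b4d6f81a3c5e709), (nat_lit 0x3210fedcba987654), (nat_lit 0x1076dc3298fe54ba), (nat_lit 0x81a3c5e7092b4d6f), (nat_lit 0x92b4d6f81a3c5e7), (nat_lit 0xc5e7092b4d6f81a3), (nat_lit 0x76543210fedcba98), (nat_lit 0xdc3298fe54ba1076), (nat_lit 0xba9876543210fedc), (nat_lit 0x4d6f81a3c5e7092b), (nat_lit 0x6f81a3c5e7092b4d), (nat_lit 0xe7092b4d6f81a3c5)]),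
  ((nat_lit 2), [(nat_lit 0xfedcba9876543210), (nat_lit 0x76dc3298fe54ba10)]),
  ((nat_lit 4), [(nat_lit 0xfedcba9876543210), (nat_lit 0x7654ba98fedc3210)])]

def f8m100_D0 : List ℕ := [(nat_lit 0), (nat_lit 513), (nat_lit 1537), (nat_lit 769), (nat_lit 1793), (nat_lit 61954), (nat_lit 68610), (nat_lit 75266), (nat_lit 81666), (nat_lit 100866), (nat_lit 109058), (nat_lit 132098), (nat_lit 140034), (nat_lit 149250), (nat_lit 196098), (nat_lit 206594), (nat_lit 0), (nat_lit 1025), (nat_lit 0), (nat_lit 2049)]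

def f8m100 : PM :=
  ⟨(nat_lit 16), (nat_lit 4), [(nat_lit 0x10fedcba98765432), (nat_lit 0x76dc3298fe54ba10), (nat_lit 0xa3c5e7092b4d6f81), (nat_lit 0x7654ba98fedc3210)],
    [[.l 1, .l 2, .l 3, .l 4]],
    [f8m100_L0], [f8m100_D0]⟩

instance f8m100_ne : NeZero f8m100.n := ⟨by decide⟩

theorem f8m100_ok0 : f8m100.ok0 = true := by decide +kernel

theorem f8m100_k0 : allFrom (nat_lit 0) (nat_lit 1) f8m100.okK = true := by decide +kernel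

theorem f8m100_ok : f8m100.OK := PM.OK.of_check f8m100_ok0
  (of_allFrom_append of_lt_zero f8m100_k0)

theorem f8m100_card0 : Nat.card (genW f8m100.gam (f8m100.ws 0)) = 64 := (f8m100_ok.card 0).trans (by decide +kernel)

theorem f8m100_uni {G : Type*} [Group G] {γ : ℕ → G} (g : Gf f8m100 γ 0 []) :
    (∀ c ∈ genW γ (f8m100.ws 0), c * c = 1 → c ≠ 1 → c ≠ γ 1 ^ 4 → (∃ g ∈ genW γ (f8m100.ws 0), g * c = c * γ 1 ^ 4 * g ∧ True) ∧ ((∃ g ∈ genW γ (f8m100.ws 0), g * c = γ 2 * g ∧ True) ∨ (∃ r ∈ genW γ (f8m100.ws 0), r * c = c * r ∧ r * r = γ 1 ^ 4) ∨ c * γ 2 = γ 2 * c ∧ (∃ g ∈ genW γ (f8m100.ws 0), g * c = γ 2 * c * g ∧ True))) ∧ (∀ c ∈ genW γ (f8m100.ws 0), c * c * (c * c) = 1 → c * c = 1 ∨ c * c = γ 1 ^ 4 ∨ (∃ g ∈ genW γ (f8m100.ws 0), g * (c * c) = γ 2 * g ∧ True)) :=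
  g.tr (φ := .and (.all 0 40 [] (.imp (.one (.mul (.l 40) (.l 40))) (.imp (.not (.one (.l 40))) (.imp (.not (.eq (.l 40) (.pow (.l 1) 4))) (.and (.ex 0 41 [(.l 40, .mul (.l 40) (.pow (.l 1) 4))] (.tt)) (.or (.ex 0 41 [(.l 40, .l 2)] (.tt)) (.or (.ex 0 41 [(.l 40, .l 40)] (.eq (.mul (.l 41) (.l 41)) (.pow (.l 1) 4))) (.and (.eq (.mul (.l 40) (.l 2)) (.mul (.l 2) (.l 40))) (.ex 0 41 [(.l 40, .mul (.l 2) (.l 40))] (.tt)))))))))) (.all 0 40 [] (.imp (.one (.mul (.mul (.l 40) (.l 40)) (.mul (.l 40) (.l 40)))) (.or (.one (.mul (.l 40) (.l 40))) (.or (.eq (.mul (.l 40) (.l 40)) (.pow (.l 1) 4)) (.ex 0 41 [(.mul (.l 40) (.l 40), .l 2)] (.tt))))))) (by decide +kernel)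

theorem f8m100_sq {G : Type*} [Group G] {γ : ℕ → G} (g : Gf f8m100 γ 0 []) :
    ∀ c ∈ genW γ (f8m100.ws 0), ∀ d ∈ genW γ (f8m100.ws 0), c * c = d * d → c * c ≠ 1 → c * c ≠ γ 1 ^ 4 → c * c * c * c = 1 → c * d⁻¹ * (c * d⁻¹) = 1 :=
  g.tr (φ := .all 0 40 [] (.all 0 41 [] (.imp (.eq (.mul (.l 40) (.l 40)) (.mul (.l 41) (.l 41))) (.imp (.not (.one (.mul (.l 40) (.l 40)))) (.imp (.not (.eq (.mul (.l 40) (.l 40)) (.pow (.l 1) 4))) (.imp (.one (.mul (.mul (.mul (.l 40) (.l 40)) (.l 40)) (.l 40))) (.one (.mul (.mul (.l 40) (.inv (.l 41))) (.mul (.l 40) (.inv (.l 41))))))))))) (by decide +kernel)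

def f8m101_L0 : List (ℕ × List ℕ) := [((nat_lit 0), [(nat_lit 0xfedcba9876543210), (nat_lit 0x10fedcba98765432), (nat_lit 0xa3c5e7092b4d6f81), (nat_lit 0xdcba9876543210fe), (nat_lit 0x2b4d6f81a3c5e709), (nat_lit 0x3210fedcba987654), (nat_lit 0x1076dc3298fe54ba), (nat_lit 0x81a3c5e7092b4d6f), (nat_lit 0x92b4d6f81a3c5e7), (nat_lit 0xc5e7092b4d6f81a3), (nat_lit 0x76543210fedcba98), (nat_lit 0xa741630d2fc9eb85), (nat_lit 0xdc3298fe54ba1076), (nat_lit 0xba9876543210fedc), (nat_lit 0x4d6f81a3c5e7092b), (nat_lit 0x2fc9eb85a741630d)]),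
  ((nat_lit 2), [(nat_lit 0xfedcba9876543210), (nat_lit 0x76dc3298fe54ba10)]),
  ((nat_lit 1), [(nat_lit 0xfedcba9876543210), (nat_lit 0xb694fad83e1c7250)])]

def f8m101_D0 : List ℕ := [(nat_lit 0), (nat_lit 513), (nat_lit 1537), (nat_lit 769), (nat_lit 1793), (nat_lit 61954), (nat_lit 68610), (nat_lit 75266), (nat_lit 81666), (nat_lit 100866), (nat_lit 109058), (nat_lit 116738), (nat_lit 140290), (nat_lit 148226), (nat_lit 157442), (nat_lit 186370), (nat_lit 0), (nat_lit 1025), (nat_lit 0), (nat_lit 2049)]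

def f8m101 : PM :=
  ⟨(nat_lit 16), (nat_lit 4), [(nat_lit 0x10fedcba98765432), (nat_lit 0x76dc3298fe54ba10), (nat_lit 0xa3c5e7092b4d6f81), (nat_lit 0xb694fad83e1c7250)],
    [[.l 1, .l 2, .l 3, .l 4]],
    [f8m101_L0], [f8m101_D0]⟩

instance f8m101_ne : NeZero f8m101.n := ⟨by decide⟩

theorem f8m101_ok0 : f8m101.ok0 = true := by decide +kernel

theorem f8m101_k0 : allFrom (nat_lit 0) (nat_lit 1) f8m101.okK = true := by decide +kernel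

theorem f8m101_ok : f8m101.OK := PM.OK.of_check f8m101_ok0
  (of_allFrom_append of_lt_zero f8m101_k0)

theorem f8m101_card0 : Nat.card (genW f8m101.gam (f8m101.ws 0)) = 64 := (f8m101_ok.card 0).trans (by decide +kernel)

theorem f8m101_uni {G : Type*} [Group G] {γ : ℕ → G} (g : Gf f8m101 γ 0 []) :
    (∀ c ∈ genW γ (f8m101.ws 0), c * c = 1 → c ≠ 1 → c ≠ γ 1 ^ 4 → (∃ g ∈ genW γ (f8m101.ws 0), g * c = c * γ 1 ^ 4 * g ∧ True) ∧ ((∃ g ∈ genW γ (f8m101.ws 0), g * c = γ 2 * g ∧ True) ∨ (∃ r ∈ genW γ (f8m101.ws 0), r * c = c * r ∧ r * r = γ 1 ^ 4) ∨ c * γ 2 = γ 2 * c ∧ (∃ g ∈ genW γ (f8m101.ws 0), g * c = γ 2 * c * g ∧ True))) ∧ (∀ c ∈ genW γ (f8m101.ws 0), c * c * (c * c) = 1 → c * c = 1 ∨ c * c = γ 1 ^ 4 ∨ (∃ g ∈ genW γ (f8m101.ws 0), g * (c * c) = γ 2 * g ∧ True)) :=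
  g.tr (φ := .and (.all 0 40 [] (.imp (.one (.mul (.l 40) (.l 40))) (.imp (.not (.one (.l 40))) (.imp (.not (.eq (.l 40) (.pow (.l 1) 4))) (.and (.ex 0 41 [(.l 40, .mul (.l 40) (.pow (.l 1) 4))] (.tt)) (.or (.ex 0 41 [(.l 40, .l 2)] (.tt)) (.or (.ex 0 41 [(.l 40, .l 40)] (.eq (.mul (.l 41) (.l 41)) (.pow (.l 1) 4))) (.and (.eq (.mul (.l 40) (.l 2)) (.mul (.l 2) (.l 40))) (.ex 0 41 [(.l 40, .mul (.l 2) (.l 40))] (.tt)))))))))) (.all 0 40 [] (.imp (.one (.mul (.mul (.l 40) (.l 40)) (.mul (.l 40) (.l 40)))) (.or (.one (.mul (.l 40) (.l 40))) (.or (.eq (.mul (.l 40) (.l 40)) (.pow (.l 1) 4)) (.ex 0 41 [(.mul (.l 40) (.l 40), .l 2)] (.tt))))))) (by decide +kernel)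

theorem f8m101_p4 {G : Type*} [Group G] {γ : ℕ → G} (g : Gf f8m101 γ 0 []) :
    ∀ c ∈ genW γ (f8m101.ws 0), c ^ 4 = 1 ∨ c ^ 4 = γ 1 ^ 4 :=
  g.tr (φ := .all 0 40 [] (.or (.one (.pow (.l 40) 4)) (.eq (.pow (.l 40) 4) (.pow (.l 1) 4)))) (by decide +kernel)

def f8m110_L0 : List (ℕ × List ℕ) := [((nat_lit 0), [(nat_lit 0xfedcba9876543210), (nat_lit 0xfed12cba9876543), (nat_lit 0x58b13d46e79fac02), (nat_lit 0xa752f9be683d40c1), (nat_lit 0xedc9876543210abf), (nat_lit 0x30fe45d12cba9876), (nat_lit 0x9e312cabf87645d), (nat_lit 0x258b0c13d46e79fa), (nat_lit 0x1a75c02f9be683d4), (nat_lit 0x147ac02d35e68f9b), (nat_lit 0x2b840c19fa6e7d35), (nat_lit 0x9630abf78e45d12c), (nat_lit 0xe3cf87645d210ba9), (nat_lit 0xdc96543210abf78e), (nat_lit 0xa258f9b0c13d46e7), (nat_lit 0x41a7d35c02f9be68)]),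
  ((nat_lit 3), [(nat_lit 0xfedcba9876543210), (nat_lit 0xde9c543876abf210), (nat_lit 0x3efc45d876ba9210), (nat_lit 0x9e3cabf87645d210)])]

def f8m110_D0 : List ℕ := [(nat_lit 0), (nat_lit 513), (nat_lit 1537), (nat_lit 2049), (nat_lit 769), (nat_lit 61954), (nat_lit 68610), (nat_lit 75266), (nat_lit 81922), (nat_lit 87810), (nat_lit 94466), (nat_lit 116226), (nat_lit 157698), (nat_lit 166658), (nat_lit 196098), (nat_lit 206850), (nat_lit 0), (nat_lit 181762), (nat_lit 86786), (nat_lit 26150403)]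

def f8m110_L1 : List (ℕ × List ℕ) := [((nat_lit 0), [(nat_lit 0xfedcba9876543210), (nat_lit 0xfed12cba9876543), (nat_lit 0xa752f9be683d40c1), (nat_lit 0xedc9876543210abf), (nat_lit 0xb8419fa6e7d35c02), (nat_lit 0x30fe45d12cba9876), (nat_lit 0x9e312cabf87645d), (nat_lit 0x1a75c02f9be683d4), (nat_lit 0x2b840c19fa6e7d35), (nat_lit 0x9630abf78e45d12c), (nat_lit 0x742ae68d350c1f9b), (nat_lit 0xe3cf87645d210ba9), (nat_lit 0x752be683d40c19fa), (nat_lit 0xdc96543210abf78e), (nat_lit 0x41a7d35c02f9be68), (nat_lit 0x52b83d40c19fa6e7)]),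
  ((nat_lit 3), [(nat_lit 0xfedcba9876543210), (nat_lit 0x9e3cabf87645d210)])]

def f8m110_D1 : List ℕ := [(nat_lit 0), (nat_lit 513), (nat_lit 1537), (nat_lit 769), (nat_lit 1793), (nat_lit 46594), (nat_lit 52226), (nat_lit 57858), (nat_lit 63234), (nat_lit 81410), (nat_lit 86786), (nat_lit 108546), (nat_lit 116226), (nat_lit 122626), (nat_lit 167426), (nat_lit 176898), (nat_lit 0), (nat_lit 1025)]

def f8m110 : PM :=
  ⟨(nat_lit 16), (nat_lit 4), [(nat_lit 0xfed12cba9876543), (nat_lit 0x9e3cabf87645d210), (nat_lit 0x58b13d46e79fac02), (nat_lit 0xa752f9be683d40c1)],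
    [[.l 1, .l 2, .l 3, .l 4],
    [.l 1, .l 2, .l 4]],
    [f8m110_L0, f8m110_L1], [f8m110_D0, f8m110_D1]⟩

instance f8m110_ne : NeZero f8m110.n := ⟨by decide⟩

theorem f8m110_ok0 : f8m110.ok0 = true := by decide +kernel

theorem f8m110_k0 : allFrom (nat_lit 0) (nat_lit 1) f8m110.okK = true := by decide +kernel

theorem f8m110_k1 : allFrom (nat_lit 1) (nat_lit 1) f8m110.okK = true := by decide +kernel

theorem f8m110_ok : f8m110.OK := PM.OK.of_check f8m110_ok0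
  (of_allFrom_append (of_allFrom_append of_lt_zero f8m110_k0) f8m110_k1)

theorem f8m110_card0 : Nat.card (genW f8m110.gam (f8m110.ws 0)) = 64 := (f8m110_ok.card 0).trans (by decide +kernel)

theorem f8m110_card1 : Nat.card (genW f8m110.gam (f8m110.ws 1)) = 32 := (f8m110_ok.card 1).trans (by decide +kernel)

theorem f8m110_uni {G : Type*} [Group G] {γ : ℕ → G} (g : Gf f8m110 γ 0 []) :
    (∀ c ∈ genW γ (f8m110.ws 0), c * c = 1 → c ≠ 1 → c ≠ γ 1 ^ 4 → (∃ g ∈ genW γ (f8m110.ws 0), g * c = c * γ 1 ^ 4 * g ∧ True) ∧ ((∃ g ∈ genW γ (f8m110.ws 0), g * c = γ 2 * g ∧ True) ∨ (∃ r ∈ genW γ (f8m110.ws 0), r * c = c * r ∧ r * r = γ 1 ^ 4) ∨ c * γ 2 = γ 2 * c ∧ (∃ g ∈ genW γ (f8m110.ws 0), g * c = γ 2 * c * g ∧ True))) ∧ (∀ c ∈ genW γ (f8m110.ws 0), c * c * (c * c) = 1 → c * c = 1 ∨ c * c = γ 1 ^ 4 ∨ (∃ g ∈ genW γ (f8m110.ws 0), g * (c * c) = γ 2 * g ∧ True)) :=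
  g.tr (φ := .and (.all 0 40 [] (.imp (.one (.mul (.l 40) (.l 40))) (.imp (.not (.one (.l 40))) (.imp (.not (.eq (.l 40) (.pow (.l 1) 4))) (.and (.ex 0 41 [(.l 40, .mul (.l 40) (.pow (.l 1) 4))] (.tt)) (.or (.ex 0 41 [(.l 40, .l 2)] (.tt)) (.or (.ex 0 41 [(.l 40, .l 40)] (.eq (.mul (.l 41) (.l 41)) (.pow (.l 1) 4))) (.and (.eq (.mul (.l 40) (.l 2)) (.mul (.l 2) (.l 40))) (.ex 0 41 [(.l 40, .mul (.l 2) (.l 40))] (.tt)))))))))) (.all 0 40 [] (.imp (.one (.mul (.mul (.l 40) (.l 40)) (.mul (.l 40) (.l 40)))) (.or (.one (.mul (.l 40) (.l 40))) (.or (.eq (.mul (.l 40) (.l 40)) (.pow (.l 1) 4)) (.ex 0 41 [(.mul (.l 40) (.l 40), .l 2)] (.tt))))))) (by decide +kernel)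

theorem f8m110_R {G : Type*} [Group G] {γ : ℕ → G} (g : Gf f8m110 γ 0 []) :
    (∀ c ∈ genW γ (f8m110.ws 0), ∀ d ∈ genW γ (f8m110.ws 0), c ∉ genW γ (f8m110.ws 1) → d ∉ genW γ (f8m110.ws 1) → c * d ∈ genW γ (f8m110.ws 1)) ∧ (∀ c ∈ genW γ (f8m110.ws 1), c * c = 1 → c = 1 ∨ c = γ 1 ^ 4 ∨ (∃ g ∈ genW γ (f8m110.ws 0), g * c = γ 2 * g ∧ True)) :=
  g.tr (φ := .and (.all 0 40 [] (.all 0 41 [] (.imp (.not (.mem 1 (.l 40))) (.imp (.not (.mem 1 (.l 41))) (.mem 1 (.mul (.l 40) (.l 41))))))) (.all 1 40 [] (.imp (.one (.mul (.l 40) (.l 40))) (.or (.one (.l 40)) (.or (.eq (.l 40) (.pow (.l 1) 4)) (.ex 0 41 [(.l 40, .l 2)] (.tt))))))) (by decide +kernel)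

def f8m111_L0 : List (ℕ × List ℕ) := [((nat_lit 0), [(nat_lit 0xffbbcdeb38bdab49ca307b9ac5a928398a418820), (nat_lit 0x18820ffbbcdeb38bdab49ca307b9ac5a928398a4), (nat_lit 0xad0e6ce16aef1ee08272292f64a37a6b3fe8c062), (nat_lit 0x35f8d14f0977c9556c11b1d9d90d19f3e85d2e01), (nat_lit 0xdeb38bdab49ca307b9ac5a928398a418820ffbbc), (nat_lit 0x292f64a37a6b3fe8c062ad0e6ce16aef1ee08272), (nat_lit 0xb1d9d90d19f3e85d2e0135f8d14f0977c9556c11), (nat_lit 0x398a418820ffbbcdeb38bdab49ca307b9ac5a928), (nat_lit 0x188207b9acdeb38398a49ca30ffbbc5a928bdab4), (nat_lit 0x8c062ad0e6ce16aef1ee08272292f64a37a6b3fe), (nat_lit 0xd2e0135f8d14f0977c9556c11b1d9d90d19f3e85), (nat_lit 0x8272292f64a37a6b3fe8c062ad0e6ce16aef1ee), (nat_lit 0x56c11b1d9d90d19f3e85d2e0135f8d14f0977c95), (nat_lit 0xce16aef1ee08272292f64a37a6b3fe8c062ad0e6), (nat_lit 0x7b9ac5a928398a418820ffbbcdeb38bdab49ca30), (nat_lit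 0x257cfc2643e36c78055ba15df46453674d70474b), (nat_lit 0xa15df46453674d70474b257cfc2643e36c78055b), (nat_lit 0x674d78055b257cf46453e36c70474ba15dfc2643), (nat_lit 0x14f09f3e8556c1135f8d90d1977c95d2e01b1d9d), (nat_lit 0xe36c70474ba15dfc2643674d78055b257cf46453), (nat_lit 0xdeb38398a49ca30ffbbc5a928bdab4188207b9ac), (nat_lit 0x14f0977c9556c11b1d9d90d19f3e85d2e0135f8d), (nat_lit 0xbdab49ca307b9ac5a928398a418820ffbbcdeb38), (nat_lit 0x4a37a6b3fe8c062ad0e6ce16aef1ee08272292f6), (nat_lit 0x6b3fe8c062ad0e6ce16aef1ee08272292f64a37a), (nat_lit 0xf3e85d2e0135f8d14f0977c9556c11b1d9d90d19), (nat_lit 0xef1ee08272292f64a37a6b3fe8c062ad0e6ce16a), (nat_lit 0x77c9556c11b1d9d90d19f3e85d2e0135f8d14f09), (nat_lit 0x474b257cfc2643e36c78055ba15df46453674d7), (nat_lit 0x8055ba15df46453674d70474b257cfc2643e36c7), (nat_lit 0xc2643674d78055b257cf46453e36c70474ba15df), (nat_lit 0x46453e36c70474ba15dfc2643674d78055b257cf)]),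
  ((nat_lit 4), [(nat_lit 0xffbbcdeb38bdab49ca307b9ac5a928398a418820), (nat_lit 0x7b9acdeb38398a49ca30ffbbc5a928bdab418820)])]

def f8m111_D0 : List ℕ := [(nat_lit 0), (nat_lit 513), (nat_lit 1537), (nat_lit 2049), (nat_lit 769), (nat_lit 1793), (nat_lit 2305), (nat_lit 74242), (nat_lit 80898), (nat_lit 87554), (nat_lit 94210), (nat_lit 100098), (nat_lit 106754), (nat_lit 129538), (nat_lit 137730), (nat_lit 145410), (nat_lit 152834), (nat_lit 181762), (nat_lit 189186), (nat_lit 198402), (nat_lit 231426), (nat_lit 241666), (nat_lit 249602), (nat_lit 259842), (nat_lit 357890), (nat_lit 370690), (nat_lit 382722), (nat_lit 395522), (nat_lit 475138), (nat_lit 489730), (nat_lit 539138), (nat_lit 554754), (nat_lit 0), (nat_lit 1025)]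

def f8m111 : PM :=
  ⟨(nat_lit 32), (nat_lit 5), [(nat_lit 0x18820ffbbcdeb38bdab49ca307b9ac5a928398a4), (nat_lit 0x7b9acdeb38398a49ca30ffbbc5a928bdab418820), (nat_lit 0xad0e6ce16aef1ee08272292f64a37a6b3fe8c062), (nat_lit 0x35f8d14f0977c9556c11b1d9d90d19f3e85d2e01)],
    [[.l 1, .l 2, .l 3, .l 4]],
    [f8m111_L0], [f8m111_D0]⟩

instance f8m111_ne : NeZero f8m111.n := ⟨by decide⟩

theorem f8m111_ok0 : f8m111.ok0 = true := by decide +kernel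

theorem f8m111_k0 : allFrom (nat_lit 0) (nat_lit 1) f8m111.okK = true := by decide +kernel

theorem f8m111_ok : f8m111.OK := PM.OK.of_check f8m111_ok0
  (of_allFrom_append of_lt_zero f8m111_k0)

theorem f8m111_card0 : Nat.card (genW f8m111.gam (f8m111.ws 0)) = 64 := (f8m111_ok.card 0).trans (by decide +kernel)

theorem f8m111_uni {G : Type*} [Group G] {γ : ℕ → G} (g : Gf f8m111 γ 0 []) :
    (∀ c ∈ genW γ (f8m111.ws 0), c * c = 1 → c ≠ 1 → c ≠ γ 1 ^ 4 → (∃ g ∈ genW γ (f8m111.ws 0), g * c = c * γ 1 ^ 4 * g ∧ True) ∧ ((∃ g ∈ genW γ (f8m111.ws 0), g * c = γ 2 * g ∧ True) ∨ (∃ r ∈ genW γ (f8m111.ws 0), r * c = c * r ∧ r * r = γ 1 ^ 4) ∨ c * γ 2 = γ 2 * c ∧ (∃ g ∈ genW γ (f8m111.ws 0), g * c = γ 2 * c * g ∧ True))) ∧ (∀ c ∈ genW γ (f8m111.ws 0), c * c * (c * c) = 1 → c * c = 1 ∨ c * c = γ 1 ^ 4 ∨ (∃ g ∈ genW γ (f8m111.ws 0), g * (c * c) = γ 2 * g ∧ True)) :=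
  g.tr (φ := .and (.all 0 40 [] (.imp (.one (.mul (.l 40) (.l 40))) (.imp (.not (.one (.l 40))) (.imp (.not (.eq (.l 40) (.pow (.l 1) 4))) (.and (.ex 0 41 [(.l 40, .mul (.l 40) (.pow (.l 1) 4))] (.tt)) (.or (.ex 0 41 [(.l 40, .l 2)] (.tt)) (.or (.ex 0 41 [(.l 40, .l 40)] (.eq (.mul (.l 41) (.l 41)) (.pow (.l 1) 4))) (.and (.eq (.mul (.l 40) (.l 2)) (.mul (.l 2) (.l 40))) (.ex 0 41 [(.l 40, .mul (.l 2) (.l 40))] (.tt)))))))))) (.all 0 40 [] (.imp (.one (.mul (.mul (.l 40) (.l 40)) (.mul (.l 40) (.l 40)))) (.or (.one (.mul (.l 40) (.l 40))) (.or (.eq (.mul (.l 40) (.l 40)) (.pow (.l 1) 4)) (.ex 0 41 [(.mul (.l 40) (.l 40), .l 2)] (.tt))))))) (by decide +kernel)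

theorem f8m111_p4 {G : Type*} [Group G] {γ : ℕ → G} (g : Gf f8m111 γ 0 []) :
    ∀ c ∈ genW γ (f8m111.ws 0), c ^ 4 = 1 ∨ c ^ 4 = γ 1 ^ 4 :=
  g.tr (φ := .all 0 40 [] (.or (.one (.pow (.l 40) 4)) (.eq (.pow (.l 40) 4) (.pow (.l 1) 4)))) (by decide +kernel)

end Cfsg.Lib.GH
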