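import Cfsg.Agent.Lib.GH.Ex
import Cfsg.Agent.Lib.T3.Hlp
import Cfsg.Agent.Lib.T2.JF

/-! The Sylow 2-subgroup of `J₂`: letters `z v t a b u w`, subgroups `S U A V Q D C`. -/

set_option autoImplicit false
set_option maxRecDepth 100000

namespace Cfsg.Lib.GH

open Cfsg.Lib.Calc Cfsg.Lib.T2 Cfsg.Lib.T3 Subgroup

def jm_L0 : List (ℕ × List ℕ) := [((nat_lit 0), [(nat_lit 0xffbbcdeb38bdab49ca307b9ac5a928398a418820), (nat_lit 0x6039d356960e35958dee8c05f9950926d47936fe), (nat_lit 0xcb6d87cffc2756cd20cad97d4ac0720c5d7480e2), (nat_lit 0xc5f349c7bff31fcdab49aa0f634a0e6ac6229001), (nat_lit 0xcaaba8f3f3bafacc0f6d30a14b79093bc0493825), (nat_lit 0xa4dd03358ab945ff21fc8f759060723eec44d42b), (nat_lit 0xa0b168ad9d3f27faa76532819d3a43bbe014788d), (nat_lit 0xb06995bf8c07e3d316a8d2498d8dd014e4d51fd7), (nat_lit 0xa17557f58b0cf9fb48c2db5d9c0128247c71c2ea), (nat_lit 0xcae0ed8be50a9ac0263d7f2b4f5a4321b0746af3),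 (nat_lit 0xe9d9faef14164d68b97298efc7a4aa0691e805a4), (nat_lit 0xfc1733633a256d4e25fe8814ceb6430ec57414ee), (nat_lit 0x668aa8fa90238196cb7835a7f171280bfb71acf5), (nat_lit 0xe13ecd1ad96d3787c2635c83d8a145f552075c47), (nat_lit 0xec9f1d531bf1b36f96675913c65dd06d42252003), (nat_lit 0xe6d0959ed2f0c98bbab4d663d0fcaa6cd8283c06), (nat_lit 0x43b553e24bdcec3e32ed088a9efb348900ffa8d0), (nat_lit 0x6604d7c29eb81d9524dadd79f2ce433c56447436), (nat_lit 0xfd5457832e3c3d410cd6de16c6f509bc78194c9a), (nat_lit 0xe0e2fae6c606e986296499d1df860e16aed2a7d2), (nat_lit 0xe992899303048f60c359ad1fcbb14512fed747db), (nat_lit 0xfd9a28bb200fa142a37536bac52c7223e674f2f8), (nat_lit 0xc24db5ffb113d9ca42b7d0656c9d4504c9e70da8), (nat_lit 0xb4472d5f891203d3aa7f5b3782520e0573e299af), (nat_lit 0xa701eda98d208bf80e337af197690909ab7958fd), (nat_lit 0xb23669b38f6c7fdcbb41adc78a10aaf2ce084849), (nat_lit 0xc3e43a87a86a6fc2156c9fcd63e5d0f6a8056c51),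 (nat_lit 0xb7c87aa797f051d941719be981ed456e8c27640c), (nat_lit 0x975a23a900378a9866fa0d6c374d9f79171a637c), (nat_lit 0xc30e4d23a105d3c1ba6f5c736918aa1576d853df), (nat_lit 0xe50379cac7110784975ba9bfd445d002dfe531b9), (nat_lit 0xee6e158f0469e5642aa6d6d9c4be0ef4e202fc54)]),
  ((nat_lit 1), [(nat_lit 0xffbbcdeb38bdab49ca307b9ac5a928398a418820), (nat_lit 0xdfb16fcdfd97171d5e8ecc1a6a94e44b14808860), (nat_lit 0x97ad8bd51cdf7495fce5229a39ba998860f608c0), (nat_lit 0xbfb9d92c96fe267aed2a415a1d422fa0dd930980)])]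

def jm_D0 : List ℕ := [(nat_lit 0), (nat_lit 513), (nat_lit 1025), (nat_lit 1537), (nat_lit 3073), (nat_lit 3585), (nat_lit 130050), (nat_lit 139778), (nat_lit 150530), (nat_lit 160258), (nat_lit 185858), (nat_lit 197634), (nat_lit 208386), (nat_lit 237570), (nat_lit 249858), (nat_lit 261634), (nat_lit 297474), (nat_lit 310786), (nat_lit 376322), (nat_lit 416770), (nat_lit 432642), (nat_lit 478722), (nat_lit 555010), (nat_lit 573954), (nat_lit 626178), (nat_lit 711682), (nat_lit 733698), (nat_lit 791042), (nat_lit 888322), (nat_lit 1025538), (nat_lit 1169922), (nat_lit 1320450), (nat_lit 0), (nat_lit 2049), (nat_lit 2561), (nat_lit 1807874)]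

def jm_L1 : List (ℕ × List ℕ) := [((nat_lit 0), [(nat_lit 0xffbbcdeb38bdab49ca307b9ac5a928398a418820), (nat_lit 0x6039d356960e35958dee8c05f9950926d47936fe), (nat_lit 0xcb6d87cffc2756cd20cad97d4ac0720c5d7480e2), (nat_lit 0xcaaba8f3f3bafacc0f6d30a14b79093bc0493825), (nat_lit 0xa4dd03358ab945ff21fc8f759060723eec44d42b), (nat_lit 0xa0b168ad9d3f27faa76532819d3a43bbe014788d), (nat_lit 0xa17557f58b0cf9fb48c2db5d9c0128247c71c2ea), (nat_lit 0xcae0ed8be50a9ac0263d7f2b4f5a4321b0746af3), (nat_lit 0xfc1733633a256d4e25fe8814ceb6430ec57414ee), (nat_lit 0x668aa8fa90238196cb7835a7f171280bfb71acf5), (nat_lit 0x43b553e24bdcec3e32ed088a9efb348900ffa8d0), (nat_lit 0x6604d7c29eb81d9524dadd79f2ce433c56447436), (nat_lit 0xfd5457832e3c3d410cd6de16c6f509bc78194c9a), (nat_lit 0xfd9a28bb200fa142a37536bac52c7223e674f2f8), (nat_lit 0xa701eda98d208bf80e337af197690909ab7958fd), (nat_lit 0x975a23a900378a9866fa0d6c374d9f79171a637c)]),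
  ((nat_lit 1), [(nat_lit 0xffbbcdeb38bdab49ca307b9ac5a928398a418820), (nat_lit 0xdfb16fcdfd97171d5e8ecc1a6a94e44b14808860), (nat_lit 0x97ad8bd51cdf7495fce5229a39ba998860f608c0), (nat_lit 0xbfb9d92c96fe267aed2a415a1d422fa0dd930980)])]

def jm_D1 : List ℕ := [(nat_lit 0), (nat_lit 513), (nat_lit 1025), (nat_lit 2561), (nat_lit 3073), (nat_lit 99330), (nat_lit 109058), (nat_lit 117762), (nat_lit 140802), (nat_lit 150530), (nat_lit 176130), (nat_lit 187394), (nat_lit 236546), (nat_lit 269314), (nat_lit 325634), (nat_lit 386050), (nat_lit 0), (nat_lit 1537), (nat_lit 2049), (nat_lit 641026)]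

def jm_L2 : List (ℕ × List ℕ) := [((nat_lit 0), [(nat_lit 0xffbbcdeb38bdab49ca307b9ac5a928398a418820), (nat_lit 0x6039d356960e35958dee8c05f9950926d47936fe), (nat_lit 0xcb6d87cffc2756cd20cad97d4ac0720c5d7480e2), (nat_lit 0xa0b168ad9d3f27faa76532819d3a43bbe014788d)]),
  ((nat_lit 1), [(nat_lit 0xffbbcdeb38bdab49ca307b9ac5a928398a418820), (nat_lit 0xdfb16fcdfd97171d5e8ecc1a6a94e44b14808860), (nat_lit 0x97ad8bd51cdf7495fce5229a39ba998860f608c0), (nat_lit 0xbfb9d92c96fe267aed2a415a1d422fa0dd930980)])]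

def jm_D2 : List ℕ := [(nat_lit 0), (nat_lit 513), (nat_lit 1025), (nat_lit 50178), (nat_lit 0), (nat_lit 1537), (nat_lit 2049), (nat_lit 124930)]

def jm_L3 : List (ℕ × List ℕ) := [((nat_lit 0), [(nat_lit 0xffbbcdeb38bdab49ca307b9ac5a928398a418820), (nat_lit 0x6039d356960e35958dee8c05f9950926d47936fe), (nat_lit 0xcb6d87cffc2756cd20cad97d4ac0720c5d7480e2), (nat_lit 0xa0b168ad9d3f27faa76532819d3a43bbe014788d)])]

def jm_D3 : List ℕ := [(nat_lit 0), (nat_lit 513), (nat_lit 1025), (nat_lit 25602)]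

def jm_L4 : List (ℕ × List ℕ) := [((nat_lit 0), [(nat_lit 0xffbbcdeb38bdab49ca307b9ac5a928398a418820), (nat_lit 0xc5f349c7bff31fcdab49aa0f634a0e6ac6229001), (nat_lit 0x6039d356960e35958dee8c05f9950926d47936fe), (nat_lit 0xcb6d87cffc2756cd20cad97d4ac0720c5d7480e2), (nat_lit 0x8aa6bce0d51eadbe5d82fb60fe80e4453c90ba45), (nat_lit 0x44caab8a50339a3050f626349f77ec78791cd76b), (nat_lit 0x79573a5b7a95706e87ed609d1e78874e408bc06a), (nat_lit 0x4ad450b46edc052f64983daa80719f8dfafa68d3), (nat_lit 0xb06995bf8c07e3d316a8d2498d8dd014e4d51fd7), (nat_lit 0xe13ecd1ad96d3787c2635c83d8a145f552075c47), (nat_lit 0xa8cdbe327153febc8307b111aa5c4d8742ef24b2), (nat_lit 0x81a4301ca89a48abf45f6b1ee0d2d8d7b35e457b), (nat_lit 0xd4b66efd6f2c593a7ac4c1d35c85a2772f002143), (nat_lit 0x76c72f11495a0e50f1ac17e30be716a829aebe66), (nat_lit 0xa0b168ad9d3f27faa76532819d3a43bbe014788d), (nat_lit 0xe9d9faef14164d68b97298efc7a4aa0691e805a4),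 (nat_lit 0x34355ff22b4cfafc1280cf95bb0837931a33950e), (nat_lit 0x969d02010a897c91303dbf2636db34d9f06fadf5), (nat_lit 0xdbaba675f342f91b1f3ea00a6c36e11fc5222930), (nat_lit 0x1d60e3f9257a8086fefc0f57216299312db64e3a), (nat_lit 0x3f41e9402dc89d75193546ac42adf160e7fde29c), (nat_lit 0x273c01bae2a36012ed1a4d70754e2ffc96c35b3d), (nat_lit 0x5a62fc534686f35f8b81ede536101e558e568dc8), (nat_lit 0x54509105d2d0ef025819f53653b3bc9b7ebc1aaf), (nat_lit 0x9a1f1b66bb71a9a637b7e046bf9fc02e08a14a09), (nat_lit 0x2bd286de03ac82e3e3d4064ca27f9d58993b6f51), (nat_lit 0x6e43752407e911e92e0f7458219abab17789ff94), (nat_lit 0x152e12a3c4e1d201cdd183fed96f55c28d65b3b9), (nat_lit 0xd84d428fef80a48446b94fb775766a27597f198), (nat_lit 0xbe1a2494806794773e531af81868dbca2b48f7f6), (nat_lit 0xf7ce480c41b5e4d4555b29a804c573eb9fcd670c), (nat_lit 0x3087749b7c04624e8a656f3e43e6be423dad2df)])]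

def jm_D4 : List ℕ := [(nat_lit 0), (nat_lit 513), (nat_lit 1025), (nat_lit 1537), (nat_lit 2049), (nat_lit 2561), (nat_lit 2305), (nat_lit 2817), (nat_lit 101378), (nat_lit 109058), (nat_lit 116738), (nat_lit 124418), (nat_lit 131330), (nat_lit 139010), (nat_lit 165378), (nat_lit 194050), (nat_lit 204802), (nat_lit 214530), (nat_lit 223490), (nat_lit 233218), (nat_lit 268802), (nat_lit 279298), (nat_lit 432130), (nat_lit 448002), (nat_lit 463106), (nat_lit 478978), (nat_lit 526850), (nat_lit 543490), (nat_lit 768514), (nat_lit 791298), (nat_lit 1034754), (nat_lit 1063682)]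

def jm_L5 : List (ℕ × List ℕ) := [((nat_lit 0), [(nat_lit 0xffbbcdeb38bdab49ca307b9ac5a928398a418820), (nat_lit 0x6039d356960e35958dee8c05f9950926d47936fe), (nat_lit 0xcb6d87cffc2756cd20cad97d4ac0720c5d7480e2), (nat_lit 0x8aa6bce0d51eadbe5d82fb60fe80e4453c90ba45), (nat_lit 0x44caab8a50339a3050f626349f77ec78791cd76b), (nat_lit 0x79573a5b7a95706e87ed609d1e78874e408bc06a), (nat_lit 0x4ad450b46edc052f64983daa80719f8dfafa68d3), (nat_lit 0xa0b168ad9d3f27faa76532819d3a43bbe014788d), (nat_lit 0x34355ff22b4cfafc1280cf95bb0837931a33950e), (nat_lit 0x969d02010a897c91303dbf2636db34d9f06fadf5), (nat_lit 0xdbaba675f342f91b1f3ea00a6c36e11fc5222930), (nat_lit 0x1d60e3f9257a8086fefc0f57216299312db64e3a), (nat_lit 0x3f41e9402dc89d75193546ac42adf160e7fde29c), (nat_lit 0x273c01bae2a36012ed1a4d70754e2ffc96c35b3d), (nat_lit 0xd84d428fef80a48446b94fb775766a27597f198), (nat_lit 0xbe1a2494806794773e531af81868dbca2b48f7f6)])]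

def jm_D5 : List ℕ := [(nat_lit 0), (nat_lit 513), (nat_lit 1025), (nat_lit 1537), (nat_lit 2049), (nat_lit 1793), (nat_lit 2305), (nat_lit 74754), (nat_lit 94722), (nat_lit 102402), (nat_lit 109314), (nat_lit 116994), (nat_lit 141314), (nat_lit 149762), (nat_lit 254978), (nat_lit 268546)]

def jm_L6 : List (ℕ × List ℕ) := [((nat_lit 0), [(nat_lit 0xffbbcdeb38bdab49ca307b9ac5a928398a418820), (nat_lit 0xc5f349c7bff31fcdab49aa0f634a0e6ac6229001), (nat_lit 0x34355ff22b4cfafc1280cf95bb0837931a33950e), (nat_lit 0x1d60e3f9257a8086fefc0f57216299312db64e3a), (nat_lit 0xdbaba675f342f91b1f3ea00a6c36e11fc5222930), (nat_lit 0x969d02010a897c91303dbf2636db34d9f06fadf5), (nat_lit 0x5a62fc534686f35f8b81ede536101e558e568dc8), (nat_lit 0x2bd286de03ac82e3e3d4064ca27f9d58993b6f51), (nat_lit 0x9a1f1b66bb71a9a637b7e046bf9fc02e08a14a09), (nat_lit 0x54509105d2d0ef025819f53653b3bc9b7ebc1aaf),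 (nat_lit 0x6039d356960e35958dee8c05f9950926d47936fe), (nat_lit 0x273c01bae2a36012ed1a4d70754e2ffc96c35b3d), (nat_lit 0x3f41e9402dc89d75193546ac42adf160e7fde29c), (nat_lit 0xb06995bf8c07e3d316a8d2498d8dd014e4d51fd7), (nat_lit 0x152e12a3c4e1d201cdd183fed96f55c28d65b3b9), (nat_lit 0x6e43752407e911e92e0f7458219abab17789ff94)])]

def jm_D6 : List ℕ := [(nat_lit 0), (nat_lit 513), (nat_lit 1025), (nat_lit 1537), (nat_lit 1281), (nat_lit 1793), (nat_lit 52226), (nat_lit 57858), (nat_lit 62722), (nat_lit 68354), (nat_lit 87042), (nat_lit 93698), (nat_lit 100098), (nat_lit 175106), (nat_lit 185858), (nat_lit 196354)]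

def jm : PM :=
  ⟨(nat_lit 32), (nat_lit 5), [(nat_lit 0x6039d356960e35958dee8c05f9950926d47936fe), (nat_lit 0xcb6d87cffc2756cd20cad97d4ac0720c5d7480e2), (nat_lit 0xc5f349c7bff31fcdab49aa0f634a0e6ac6229001), (nat_lit 0xdfb16fcdfd97171d5e8ecc1a6a94e44b14808860), (nat_lit 0x97ad8bd51cdf7495fce5229a39ba998860f608c0), (nat_lit 0xcaaba8f3f3bafacc0f6d30a14b79093bc0493825), (nat_lit 0xa4dd03358ab945ff21fc8f759060723eec44d42b)],
    [[.l 1, .l 2, .l 3, .l 4, .l 5, .l 6, .l 7],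
    [.l 1, .l 2, .l 4, .l 5, .l 6, .l 7],
    [.l 1, .l 2, .l 4, .l 5],
    [.l 1, .l 2],
    [.l 3, .l 1, .l 2, .mul (.l 6) (.l 4), .mul (.l 7) (.l 5)],
    [.l 1, .l 2, .mul (.l 6) (.l 4), .mul (.l 7) (.l 5)],
    [.l 3, .mul (.mul (.l 2) (.l 6)) (.l 4), .mul (.mul (.l 2) (.l 5)) (.l 7)]],
    [jm_L0, jm_L1, jm_L2, jm_L3, jm_L4, jm_L5, jm_L6], [jm_D0, jm_D1, jm_D2, jm_D3, jm_D4, jm_D5, jm_D6]⟩

instance jm_ne : NeZero jm.n := ⟨by decide⟩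

theorem jm_ok0 : jm.ok0 = true := by decide +kernel

theorem jm_k0 : allFrom (nat_lit 0) (nat_lit 1) jm.okK = true := by decide +kernel

theorem jm_k1 : allFrom (nat_lit 1) (nat_lit 1) jm.okK = true := by decide +kernel

theorem jm_k2 : allFrom (nat_lit 2) (nat_lit 1) jm.okK = true := by decide +kernel

theorem jm_k3 : allFrom (nat_lit 3) (nat_lit 1) jm.okK = true := by decide +kernel

theorem jm_k4 : allFrom (nat_lit 4) (nat_lit 1) jm.okK = true := by decide +kernel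

theorem jm_k5 : allFrom (nat_lit 5) (nat_lit 1) jm.okK = true := by decide +kernel

theorem jm_k6 : allFrom (nat_lit 6) (nat_lit 1) jm.okK = true := by decide +kernel

theorem jm_ok : jm.OK := PM.OK.of_check jm_ok0
  (of_allFrom_append (of_allFrom_append (of_allFrom_append (of_allFrom_append (of_allFrom_append (of_allFrom_append (of_allFrom_append of_lt_zero jm_k0) jm_k1) jm_k2) jm_k3) jm_k4) jm_k5) jm_k6)

theorem jm_card0 : Nat.card (genW jm.gam (jm.ws 0)) = 128 := (jm_ok.card 0).trans (by decide +kernel)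

theorem jm_card1 : Nat.card (genW jm.gam (jm.ws 1)) = 64 := (jm_ok.card 1).trans (by decide +kernel)

theorem jm_card2 : Nat.card (genW jm.gam (jm.ws 2)) = 16 := (jm_ok.card 2).trans (by decide +kernel)

theorem jm_card3 : Nat.card (genW jm.gam (jm.ws 3)) = 4 := (jm_ok.card 3).trans (by decide +kernel)

theorem jm_card4 : Nat.card (genW jm.gam (jm.ws 4)) = 32 := (jm_ok.card 4).trans (by decide +kernel)

theorem jm_card5 : Nat.card (genW jm.gam (jm.ws 5)) = 16 := (jm_ok.card 5).trans (by decide +kernel)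

theorem jm_card6 : Nat.card (genW jm.gam (jm.ws 6)) = 16 := (jm_ok.card 6).trans (by decide +kernel)

theorem jm_cls {G : Type*} [Group G] {γ : ℕ → G} (g : Gf jm γ 0 []) :
    ∀ q ∈ genW γ (jm.ws 4), q * q = 1 → q = 1 ∨ q = γ 1 ∨ q ∈ genW γ (jm.ws 3) ∧ (∃ g ∈ genW γ (jm.ws 0), g * q = γ 2 * g ∧ True) ∨ q ∉ genW γ (jm.ws 1) ∧ (∃ g ∈ genW γ (jm.ws 0), g * q = γ 3 * g ∧ True) :=
  g.tr (φ := .all 4 40 [] (.imp (.one (.mul (.l 40) (.l 40))) (.or (.one (.l 40)) (.or (.eq (.l 40) (.l 1)) (.or (.and (.mem 3 (.l 40)) (.ex 0 41 [(.l 40, .l 2)] (.tt))) (.and (.not (.mem 1 (.l 40))) (.ex 0 41 [(.l 40, .l 3)] (.tt)))))))) (by decide +kernel)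

theorem jm_sq {G : Type*} [Group G] {γ : ℕ → G} (g : Gf jm γ 0 []) :
    ∀ q ∈ genW γ (jm.ws 4), q * q = 1 ∨ q * q = γ 1 :=
  g.tr (φ := .all 4 40 [] (.or (.one (.mul (.l 40) (.l 40))) (.eq (.mul (.l 40) (.l 40)) (.l 1)))) (by decide +kernel)

theorem jm_sz {G : Type*} [Group G] {γ : ℕ → G} (g : Gf jm γ 0 []) :
    ∀ s ∈ genW γ (jm.ws 0), s * s = γ 1 → s ∈ genW γ (jm.ws 4) :=
  g.tr (φ := .all 0 40 [] (.imp (.eq (.mul (.l 40) (.l 40)) (.l 1)) (.mem 4 (.l 40)))) (by decide +kernel)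

theorem jm_r4 {G : Type*} [Group G] {γ : ℕ → G} (g : Gf jm γ 0 []) :
    ∀ r ∈ genW γ (jm.ws 0), r * r * (r * r) = 1 → r * r ∈ genW γ (jm.ws 3) :=
  g.tr (φ := .all 0 40 [] (.imp (.one (.mul (.mul (.l 40) (.l 40)) (.mul (.l 40) (.l 40)))) (.mem 3 (.mul (.l 40) (.l 40))))) (by decide +kernel)

theorem jm_out {G : Type*} [Group G] {γ : ℕ → G} (g : Gf jm γ 0 []) :
    ∀ c ∈ genW γ (jm.ws 0), c * c = 1 → c ∉ genW γ (jm.ws 4) → (∀ d ∈ genW γ (jm.ws 0), d * c = c * d → d ∈ genW γ (jm.ws 2)) ∨ (∀ d ∈ genW γ (jm.ws 0), d * c = c * d → γ 3 * d * (γ 3)⁻¹ ∈ genW γ (jm.ws 2)) :=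
  g.tr (φ := .all 0 40 [] (.imp (.one (.mul (.l 40) (.l 40))) (.imp (.not (.mem 4 (.l 40))) (.or (.all 0 41 [(.l 40, .l 40)] (.mem 2 (.l 41))) (.all 0 41 [(.l 40, .l 40)] (.mem 2 (.mul (.mul (.l 3) (.l 41)) (.inv (.l 3))))))))) (by decide +kernel)

theorem jm_e4 {G : Type*} [Group G] {γ : ℕ → G} (g : Gf jm γ 0 []) :
    ∀ p ∈ genW γ (jm.ws 4), p * p = 1 → ∀ q ∈ genW γ (jm.ws 4), q * p = p * q → q * q = 1 → p = 1 ∨ p = γ 1 ∨ q = 1 ∨ q = γ 1 ∨ p * q = 1 ∨ p * q = γ 1 :=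
  g.tr (φ := .all 4 40 [] (.imp (.one (.mul (.l 40) (.l 40))) (.all 4 41 [(.l 40, .l 40)] (.imp (.one (.mul (.l 41) (.l 41))) (.or (.one (.l 40)) (.or (.eq (.l 40) (.l 1)) (.or (.one (.l 41)) (.or (.eq (.l 41) (.l 1)) (.or (.one (.mul (.l 40) (.l 41))) (.eq (.mul (.l 40) (.l 41)) (.l 1))))))))))) (by decide +kernel)

theorem jm_e8 {G : Type*} [Group G] {γ : ℕ → G} (g : Gf jm γ 0 []) :
    ∀ p ∈ genW γ (jm.ws 4), p * p = 1 → ∀ q ∈ genW γ (jm.ws 4), q * p = p * q → q * q = 1 → ∀ r ∈ genW γ (jm.ws 4), r * p = p * r → r * q = q * r → r * r = 1 → p = 1 ∨ q = 1 ∨ r = 1 ∨ p * q = 1 ∨ p * r = 1 ∨ q * r = 1 ∨ p * q * r = 1 :=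
  g.tr (φ := .all 4 40 [] (.imp (.one (.mul (.l 40) (.l 40))) (.all 4 41 [(.l 40, .l 40)] (.imp (.one (.mul (.l 41) (.l 41))) (.all 4 42 [(.l 40, .l 40), (.l 41, .l 41)] (.imp (.one (.mul (.l 42) (.l 42))) (.or (.one (.l 40)) (.or (.one (.l 41)) (.or (.one (.l 42)) (.or (.one (.mul (.l 40) (.l 41))) (.or (.one (.mul (.l 40) (.l 42))) (.or (.one (.mul (.l 41) (.l 42))) (.one (.mul (.mul (.l 40) (.l 41)) (.l 42))))))))))))))) (by decide +kernel)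

theorem jm_nA {G : Type*} [Group G] {γ : ℕ → G} (g : Gf jm γ 0 []) :
    ∀ s ∈ genW γ (jm.ws 0), s * γ 4 * s⁻¹ ∈ genW γ (jm.ws 2) → s ∈ genW γ (jm.ws 1) :=
  g.tr (φ := .all 0 40 [] (.imp (.mem 2 (.mul (.mul (.l 40) (.l 4)) (.inv (.l 40)))) (.mem 1 (.l 40)))) (by decide +kernel)

theorem jm_cv {G : Type*} [Group G] {γ : ℕ → G} (g : Gf jm γ 0 []) :
    ∀ s ∈ genW γ (jm.ws 0), s * γ 2 = γ 2 * s → s ∈ genW γ (jm.ws 1) :=
  g.tr (φ := .all 0 40 [(.l 2, .l 2)] (.mem 1 (.l 40))) (by decide +kernel)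

theorem jm_ct {G : Type*} [Group G] {γ : ℕ → G} (g : Gf jm γ 0 []) :
    ∀ s ∈ genW γ (jm.ws 0), s * γ 3 = γ 3 * s → s ∈ genW γ (jm.ws 6) :=
  g.tr (φ := .all 0 40 [(.l 3, .l 3)] (.mem 6 (.l 40))) (by decide +kernel)

theorem jm_gen {G : Type*} [Group G] {γ : ℕ → G} (g : Gf jm γ 0 []) :
    ∀ q ∈ genW γ (jm.ws 4), q ∉ genW γ (jm.ws 5) → ∀ c ∈ genW γ (jm.ws 4), c * q = q * c → c * (γ 4 * q * (γ 4)⁻¹) = γ 4 * q * (γ 4)⁻¹ * c → c * (γ 5 * q * (γ 5)⁻¹) = γ 5 * q * (γ 5)⁻¹ * c → c * (γ 4 * γ 5 * q * (γ 4 * γ 5)⁻¹) = γ 4 * γ 5 * q * (γ 4 * γ 5)⁻¹ * c → c = 1 ∨ c = γ 1 :=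
  g.tr (φ := .all 4 40 [] (.imp (.not (.mem 5 (.l 40))) (.all 4 41 [(.l 40, .l 40), (.mul (.mul (.l 4) (.l 40)) (.inv (.l 4)), .mul (.mul (.l 4) (.l 40)) (.inv (.l 4))), (.mul (.mul (.l 5) (.l 40)) (.inv (.l 5)), .mul (.mul (.l 5) (.l 40)) (.inv (.l 5))), (.mul (.mul (.mul (.l 4) (.l 5)) (.l 40)) (.inv (.mul (.l 4) (.l 5))), .mul (.mul (.mul (.l 4) (.l 5)) (.l 40)) (.inv (.mul (.l 4) (.l 5))))] (.or (.one (.l 41)) (.eq (.l 41) (.l 1)))))) (by decide +kernel)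

theorem jm_dv {G : Type*} [Group G] {γ : ℕ → G} (g : Gf jm γ 0 []) :
    ∀ d ∈ genW γ (jm.ws 5), d ≠ 1 → d ≠ γ 1 → ∃ s ∈ genW γ (jm.ws 0), d = γ 2 ∨ d * γ 1 = γ 2 ∨ s * d * s⁻¹ * d⁻¹ = γ 2 ∨ s * d * s⁻¹ * d⁻¹ * γ 1 = γ 2 :=
  g.tr (φ := .all 5 40 [] (.imp (.not (.one (.l 40))) (.imp (.not (.eq (.l 40) (.l 1))) (.ex 0 41 [] (.or (.eq (.l 40) (.l 2)) (.or (.eq (.mul (.l 40) (.l 1)) (.l 2)) (.or (.eq (.mul (.mul (.mul (.l 41) (.l 40)) (.inv (.l 41))) (.inv (.l 40))) (.l 2)) (.eq (.mul (.mul (.mul (.mul (.l 41) (.l 40)) (.inv (.l 41))) (.inv (.l 40))) (.l 1)) (.l 2))))))))) (by decide +kernel)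

theorem jm_cov {G : Type*} [Group G] {γ : ℕ → G} (g : Gf jm γ 0 []) :
    ∀ e ∈ genW γ (jm.ws 0), e ∈ genW γ (jm.ws 4) ∨ e * γ 4 ∈ genW γ (jm.ws 4) ∨ e * γ 5 ∈ genW γ (jm.ws 4) ∨ e * (γ 4 * γ 5) ∈ genW γ (jm.ws 4) :=
  g.tr (φ := .all 0 40 [] (.or (.mem 4 (.l 40)) (.or (.mem 4 (.mul (.l 40) (.l 4))) (.or (.mem 4 (.mul (.l 40) (.l 5))) (.mem 4 (.mul (.l 40) (.mul (.l 4) (.l 5)))))))) (by decide +kernel)

theorem jm_mz {G : Type*} [Group G] {γ : ℕ → G} (g : Gf jm γ 0 []) :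
    ∀ s ∈ genW γ (jm.ws 0), s * s = 1 → s ≠ 1 → s ≠ γ 1 → ∃ g ∈ genW γ (jm.ws 0), g * s = s * γ 1 * g ∧ True :=
  g.tr (φ := .all 0 40 [] (.imp (.one (.mul (.l 40) (.l 40))) (.imp (.not (.one (.l 40))) (.imp (.not (.eq (.l 40) (.l 1))) (.ex 0 41 [(.l 40, .mul (.l 40) (.l 1))] (.tt)))))) (by decide +kernel)

theorem jm_m5 {G : Type*} [Group G] {γ : ℕ → G} (g : Gf jm γ 0 []) :
    ∀ p ∈ genW γ (jm.ws 4), p * p = 1 → p ∉ genW γ (jm.ws 3) → ∀ q ∈ genW γ (jm.ws 4), q * q = 1 → q ∉ genW γ (jm.ws 3) → p * q ≠ 1 → p * q ≠ γ 1 → ∃ s ∈ genW γ (jm.ws 0), s * p = q * s ∧ s * q = p * s ∧ s * γ 2 = γ 2 * s ∧ True :=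
  g.tr (φ := .all 4 40 [] (.imp (.one (.mul (.l 40) (.l 40))) (.imp (.not (.mem 3 (.l 40))) (.all 4 41 [] (.imp (.one (.mul (.l 41) (.l 41))) (.imp (.not (.mem 3 (.l 41))) (.imp (.not (.one (.mul (.l 40) (.l 41)))) (.imp (.not (.eq (.mul (.l 40) (.l 41)) (.l 1))) (.ex 0 42 [(.l 40, .l 41), (.l 41, .l 40), (.l 2, .l 2)] (.tt)))))))))) (by decide +kernel)

theorem jm_cQ {G : Type*} [Group G] {γ : ℕ → G} (g : Gf jm γ 0 []) :
    ∀ s ∈ genW γ (jm.ws 0), s * γ 3 = γ 3 * s → s * γ 2 = γ 2 * s → s * (γ 6 * γ 4) = γ 6 * γ 4 * s → s * (γ 7 * γ 5) = γ 7 * γ 5 * s → s = 1 ∨ s = γ 1 :=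
  g.tr (φ := .all 0 40 [(.l 3, .l 3), (.l 2, .l 2), (.mul (.l 6) (.l 4), .mul (.l 6) (.l 4)), (.mul (.l 7) (.l 5), .mul (.l 7) (.l 5))] (.or (.one (.l 40)) (.eq (.l 40) (.l 1)))) (by decide +kernel)

theorem jm_a1 {G : Type*} [Group G] {γ : ℕ → G} (g : Gf jm γ 0 []) :
    ∀ q ∈ genW γ (jm.ws 4), ∃ r ∈ genW γ (jm.ws 4), r * q = q * r ∧ r * r = γ 1 :=
  g.tr (φ := .all 4 40 [] (.ex 4 41 [(.l 40, .l 40)] (.eq (.mul (.l 41) (.l 41)) (.l 1)))) (by decide +kernel)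

theorem jm_cm {G : Type*} [Group G] {γ : ℕ → G} (g : Gf jm γ 0 []) :
    ∀ p ∈ genW γ (jm.ws 4), ∀ q ∈ genW γ (jm.ws 4), p * q = q * p ∨ p * q = q * p * γ 1 :=
  g.tr (φ := .all 4 40 [] (.all 4 41 [] (.or (.eq (.mul (.l 40) (.l 41)) (.mul (.l 41) (.l 40))) (.eq (.mul (.l 40) (.l 41)) (.mul (.mul (.l 41) (.l 40)) (.l 1)))))) (by decide +kernel)

theorem jm_A2 {G : Type*} [Group G] {γ : ℕ → G} (g : Gf jm γ 0 []) :
    ∀ x ∈ genW γ (jm.ws 2), x * x = 1 :=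
  g.tr (φ := .all 2 40 [] (.one (.mul (.l 40) (.l 40)))) (by decide +kernel)

theorem jm_tr {G : Type*} [Group G] {γ : ℕ → G} (g : Gf jm γ 0 []) :
    ∀ c ∈ genW γ (jm.ws 2), c ∉ genW γ (jm.ws 3) → ∀ x ∈ genW γ (jm.ws 3), ∃ g ∈ genW γ (jm.ws 1), g * c = c * x * g ∧ True :=
  g.tr (φ := .all 2 40 [] (.imp (.not (.mem 3 (.l 40))) (.all 3 41 [] (.ex 1 42 [(.l 40, .mul (.l 40) (.l 41))] (.tt))))) (by decide +kernel)

theorem jm_V {G : Type*} [Group G] {γ : ℕ → G} (g : Gf jm γ 0 []) :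
    ∀ x ∈ genW γ (jm.ws 3), x = 1 ∨ x = γ 1 ∨ x = γ 2 ∨ x = γ 2 * γ 1 :=
  g.tr (φ := .all 3 40 [] (.or (.one (.l 40)) (.or (.eq (.l 40) (.l 1)) (.or (.eq (.l 40) (.l 2)) (.eq (.l 40) (.mul (.l 2) (.l 1))))))) (by decide +kernel)

theorem jm_AQ {G : Type*} [Group G] {γ : ℕ → G} (g : Gf jm γ 0 []) :
    ∀ x ∈ genW γ (jm.ws 2), x ∈ genW γ (jm.ws 4) → x ∈ genW γ (jm.ws 3) :=
  g.tr (φ := .all 2 40 [] (.imp (.mem 4 (.l 40)) (.mem 3 (.l 40)))) (by decide +kernel)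

theorem jm_D {G : Type*} [Group G] {γ : ℕ → G} (g : Gf jm γ 0 []) :
    ∀ q ∈ genW γ (jm.ws 4), q * γ 2 = γ 2 * q → q ∈ genW γ (jm.ws 5) :=
  g.tr (φ := .all 4 40 [(.l 2, .l 2)] (.mem 5 (.l 40))) (by decide +kernel)

theorem jm_le : jm.K 0 ≤ J.h0.K 0 := genW_le.2 fun t ht => by
  have key : ∀ c, Grp.memCh 32 5 (J.h0.Ls 0) (jm.env c) = true → jm.gam c ∈ J.h0.K 0 := fun c e =>
    ((J.h0_ok.chn 0).tst (inj_finPt _) (faithful_finPt _) J.h0_ok.hn J.h0_ok.hw _ _ (jm_ok.rep c)).2 e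
  rcases ht with _ | ⟨_, _ | ⟨_, _ | ⟨_, _ | ⟨_, _ | ⟨_, _ | ⟨_, _ | ⟨_, ht⟩⟩⟩⟩⟩⟩⟩
  iterate 7 exact key _ (by decide +kernel)
  cases ht

theorem exists_h0_J2 : ∃ δ : ℕ → Spor.J2, IsoW J.h0.gam δ ∧ genW δ (J.h0.ws 0) = centralizer {J.zz δ} := by
  have : Finite J2.hj := Nat.finite_of_card_ne_zero (by rw [J2.card_hj]; norm_num)
  have := J2.btw_q.normal
  have : Finite (Leech.gp1 J2.cL) := Nat.finite_of_card_ne_zero (by rw [J2.card_c]; norm_num)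
  obtain ⟨_, h⟩ := J2.sh4_c.map J2.eC.symm
  obtain ⟨e⟩ := h.quot
  obtain ⟨γ, H, -⟩ := J.exists_js_of_shape (t := J2.zz) (fun e => by
    have := J2.index_cen
    rw [e, centralizer_eq_top_iff_subset.2 (by simp), index_top] at this
    omega) _ h.card h.es e
  refine ⟨_, H.jh.iso.trans (IsoW.of_hom J2.eJ.symm.toMonoidHom J2.eJ.symm.injective _), ?_⟩
  rw [← map_genW, H.jh.cen]
  ext x
  obtain ⟨x, rfl⟩ := J2.eJ.symm.surjective x
  refine (mem_map_iff_mem (f := J2.eJ.symm.toMonoidHom) J2.eJ.symm.injective).trans ?_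
  simp only [mem_centralizer_singleton_iff, J.zz, MulEquiv.coe_toMonoidHom, ← map_mul, ← map_pow,
    EmbeddingLike.apply_eq_iff_eq]

instance finiteJ2 : Finite Spor.J2 := Nat.finite_of_card_ne_zero (by rw [J2.card_J2]; norm_num)

theorem exists_jm {G : Type*} [Group G] {S : Subgroup G} (P : Sylow 2 Spor.J2) (e : S ≃* (P : Subgroup Spor.J2)) :
    ∃ γ : ℕ → G, IsoW jm.gam γ ∧ genW γ (jm.ws 0) = S := by
  obtain ⟨δ, h, -⟩ := exists_h0_J2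
  obtain ⟨f, -⟩ := h.exists_equiv (J.h0.ws 0)
  let φ : jm.K 0 →* Spor.J2 := (genW δ (J.h0.ws 0)).subtype.comp (f.toMonoidHom.comp (inclusion jm_le))
  have hφ : Function.Injective φ := (subtype_injective _).comp (f.injective.comp (inclusion_injective _))
  have e1 := MonoidHom.ofInjective hφ
  obtain ⟨e2⟩ := nonempty_equiv_of_card P (L := φ.range) (k := 7) (m := 4725)
    ((Nat.card_congr e1.toEquiv).symm.trans jm_card0) J2.card_J2 (by decide)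
  exact exists_isoW jm_ok (e.trans (e2.trans e1.symm))

end Cfsg.Lib.GH
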