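import Cfsg.Agent.Lib.GH.Ex
import Cfsg.Agent.Lib.T3.Hlp
import Cfsg.Agent.Lib.T2.LA
import Cfsg.Agent.Lib.Mathieu.Sub

/-! The Sylow 2-subgroup of `M₂₄` modulo its centre: letters `d e z a c h u p b`. -/

set_option autoImplicit false
set_option maxRecDepth 100000

namespace Cfsg.Lib.GH

open Cfsg.Lib.Calc Cfsg.Lib.T2 Cfsg.Lib.T3 Cfsg.Lib.Grp Subgroup

def t24_L0 : List (ℕ × List ℕ) := [((nat_lit 4), [(nat_lit 0xbdab49ca307b9ac5a928398a418820), (nat_lit 0xb926faa22da3a0b6255231cb618820), (nat_lit 0x2926f6a1d59460962d54b1ee610c01), (nat_lit 0x926f8500d416aa62572359c710ef1), (nat_lit 0x1926f49ef53054d62e14b21d201451), (nat_lit 0x8926f5504938eb06356695ae8015c1), (nat_lit 0x1126f59cadb015562612322340dc6e), (nat_lit 0x111f349e343015262d15b40ad0b877), (nat_lit 0xb91f35546938a88649666da300b8a0), (nat_lit 0x15ab4618b0201335a9a83ca2f0dc6e), (nat_lit 0x191f359dd2b05546250d342f504445), (nat_lit 0x11f36a03490a0662cf5b28698dcae),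 (nat_lit 0x711f3854ad40287619724d82a8dc62), (nat_lit 0x1da95619c82052f5aa503b6f304445), (nat_lit 0x91f3aa012a0e16624ed3284b716f1), (nat_lit 0xda959c80878da45a8d03a44c716f1)]),
  ((nat_lit 0), [(nat_lit 0xbdab49ca307b9ac5a928398a418820), (nat_lit 0x1e089d02d7deac5257235a24188ae), (nat_lit 0xdab499dc97c54c5b60692044016e3), (nat_lit 0x8da957b6e89964c5a930399c410c01), (nat_lit 0x719b29a0b57820c4ad54b1c2418a37), (nat_lit 0x1c9269d2ea786ac6c167459c401451), (nat_lit 0x9d107d4129c68c5256d35ae410dc5), (nat_lit 0x5a9579ca99dd4c5c9066c0640ba22)]),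
  ((nat_lit 5), [(nat_lit 0xbdab49ca307b9ac5a928398a418820), (nat_lit 0x155767c0299b90ca494669e242dc60), (nat_lit 0x152cb7a8b29b8ecaa60d320640de20), (nat_lit 0xbae959a46a7b8ccb424743424888a0)]),
  ((nat_lit 1), [(nat_lit 0xbdab49ca307b9ac5a928398a418820), (nat_lit 0x149269a02b7de0c6d556a1ca48b860), (nat_lit 0xba0ea7c82b989ac850d6aa4a41ba20)]),
  ((nat_lit 2), [(nat_lit 0xbdab49ca307b9ac5a928398a418820), (nat_lit 0x15a957a06d9ba0c598f24a8a48dc20)])]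

def t24_D0 : List ℕ := [(nat_lit 0), (nat_lit 513), (nat_lit 58370), (nat_lit 67074), (nat_lit 83458), (nat_lit 102914), (nat_lit 123906), (nat_lit 135170), (nat_lit 159746), (nat_lit 184834), (nat_lit 198658), (nat_lit 227842), (nat_lit 259586), (nat_lit 293890), (nat_lit 349186), (nat_lit 430594), (nat_lit 0), (nat_lit 9778435), (nat_lit 11924739), (nat_lit 2049), (nat_lit 11120387), (nat_lit 1869369604), (nat_lit 661506), (nat_lit 714754), (nat_lit 0), (nat_lit 53280003), (nat_lit 54687491), (nat_lit 4623502596), (nat_lit 0), (nat_lit 296618249989), (nat_lit 0x8728d41ea4907), (nat_lit 0), (nat_lit 47146784251142)]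

def t24_L1 : List (ℕ × List ℕ) := [((nat_lit 4), [(nat_lit 0xbdab49ca307b9ac5a928398a418820), (nat_lit 0xb926faa22da3a0b6255231cb618820), (nat_lit 0x2926f6a1d59460962d54b1ee610c01), (nat_lit 0x2dab4849d3445aa5b12f21ae710c01), (nat_lit 0x1926f49ef53054d62e14b21d201451), (nat_lit 0x1dab451af3385305b1af249c801451), (nat_lit 0x1126f59cadb015562612322340dc6e), (nat_lit 0x111f349e343015262d15b40ad0b877), (nat_lit 0x15a9551a2f381285b253234b00b877), (nat_lit 0x15ab4618b0201335a9a83ca2f0dc6e), (nat_lit 0x191f359dd2b05546250d342f504445), (nat_lit 0x11f36a03490a0662cf5b28698dcae), (nat_lit 0x5a958482f409a75b0d32246a8dcae), (nat_lit 0x1da95619c82052f5aa503b6f304445), (nat_lit 0x91f3aa012a0e16624ed3284b716f1), (nat_lit 0xda959c80878da45a8d03a44c716f1)]),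
  ((nat_lit 0), [(nat_lit 0xbdab49ca307b9ac5a928398a418820), (nat_lit 0x299b29d1d07c6ac4a9683dae410c01), (nat_lit 0x75ab49982a7dd2c5c1a74486428222), (nat_lit 0x1c9269d2ea786ac6c167459c401451), (nat_lit 0x899b29d80a7956c4c2a745044b85c3), (nat_lit 0x151769c8aa781acac12741a240dc6e), (nat_lit 0x135267d62a9828c92167858a40b877), (nat_lit 0xc9269d85078d6c6aaa83d004746e5)]),
  ((nat_lit 5), [(nat_lit 0xbdab49ca307b9ac5a928398a418820), (nat_lit 0x735267d0279deac942ca42c64888a0), (nat_lit 0x71a4d7d4a89de8c4a9703da2418820), (nat_lit 0x725b27ac6a9decc322a78502428a20)]),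
  ((nat_lit 1), [(nat_lit 0xbdab49ca307b9ac5a928398a418820), (nat_lit 0x748c97da309dd6c69e88554a408860)])]

def t24_D1 : List ℕ := [(nat_lit 0), (nat_lit 513), (nat_lit 44034), (nat_lit 57858), (nat_lit 66050), (nat_lit 83458), (nat_lit 102402), (nat_lit 112642), (nat_lit 135170), (nat_lit 158210), (nat_lit 171010), (nat_lit 198146), (nat_lit 227842), (nat_lit 260098), (nat_lit 312322), (nat_lit 389634), (nat_lit 0), (nat_lit 1025), (nat_lit 1537), (nat_lit 542210), (nat_lit 589826), (nat_lit 640002), (nat_lit 665602), (nat_lit 718338), (nat_lit 0), (nat_lit 48029443), (nat_lit 138498), (nat_lit 56751363), (nat_lit 0), (nat_lit 4839944452)]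

def t24 : PM :=
  ⟨(nat_lit 24), (nat_lit 5), [(nat_lit 0xb926faa22da3a0b6255231cb618820), (nat_lit 0x299b29d1d07c6ac4a9683dae410c01), (nat_lit 0x75ab49982a7dd2c5c1a74486428222), (nat_lit 0x8da957b6e89964c5a930399c410c01), (nat_lit 0x9e089c815795ac52d34b19c410ef1)],
    [[.l 1, .l 2, .l 3, .l 4, .l 5],
    [.l 1, .l 2, .l 3, .l 4]],
    [t24_L0, t24_L1], [t24_D0, t24_D1]⟩

instance t24_ne : NeZero t24.n := ⟨by decide⟩

theorem t24_ok0 : t24.ok0 = true := by decide +kernel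

theorem t24_k0 : allFrom (nat_lit 0) (nat_lit 1) t24.okK = true := by decide +kernel

theorem t24_k1 : allFrom (nat_lit 1) (nat_lit 1) t24.okK = true := by decide +kernel

theorem t24_ok : t24.OK := PM.OK.of_check t24_ok0
  (of_allFrom_append (of_allFrom_append of_lt_zero t24_k0) t24_k1)

theorem t24_card0 : Nat.card (genW t24.gam (t24.ws 0)) = 3072 := (t24_ok.card 0).trans (by decide +kernel)

theorem t24_card1 : Nat.card (genW t24.gam (t24.ws 1)) = 1024 := (t24_ok.card 1).trans (by decide +kernel)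

def sb_L0 : List (ℕ × List ℕ) := [((nat_lit 8), [(nat_lit 0xfedcba9876543210), (nat_lit 0xba98fedc76543210), (nat_lit 0xba98dcfe67542310), (nat_lit 0xdc98feba75643120), (nat_lit 0xab98dcef45762310), (nat_lit 0xdc98efab57463120), (nat_lit 0xab98fecd45673210), (nat_lit 0xefdcba8945673210)]),
  ((nat_lit 2), [(nat_lit 0xfedcba9876543210), (nat_lit 0xdcbafe9865742130), (nat_lit 0xfedcba9801234567), (nat_lit 0xbafedc9857641320), (nat_lit 0xdcbafe9812035647), (nat_lit 0xdcbafe9803124756), (nat_lit 0xbafedc9820136457), (nat_lit 0xdcbafe9874653021)]),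
  ((nat_lit 4), [(nat_lit 0xfedcba9876543210), (nat_lit 0xabcdfe9865471230), (nat_lit 0xbafedc9846750231), (nat_lit 0xefdcab9854763210)]),
  ((nat_lit 0), [(nat_lit 0xfedcba9876543210), (nat_lit 0xbaefcd9857640231), (nat_lit 0xfeabcd9875640213)]),
  ((nat_lit 1), [(nat_lit 0xfedcba9876543210), (nat_lit 0xbadcfe9856741230)])]

def sb_D0 : List ℕ := [(nat_lit 0), (nat_lit 513), (nat_lit 58370), (nat_lit 67074), (nat_lit 83458), (nat_lit 102914), (nat_lit 123906), (nat_lit 160258), (nat_lit 0), (nat_lit 4166915), (nat_lit 5313795), (nat_lit 4765955), (nat_lit 365032708), (nat_lit 456189188), (nat_lit 565335300), (nat_lit 729851140), (nat_lit 0), (nat_lit 39475809541), (nat_lit 49433366789), (nat_lit 3735046676742), (nat_lit 0), (nat_lit 321645805313287), (nat_lit 6853899007750), (nat_lit 0), (nat_lit 0x8b8b95acb04b08)]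

def sb_L1 : List (ℕ × List ℕ) := [((nat_lit 8), [(nat_lit 0xfedcba9876543210), (nat_lit 0xba98fedc76543210), (nat_lit 0xba98dcfe67542310), (nat_lit 0xfedc98ba67542310), (nat_lit 0xab98dcef45762310), (nat_lit 0xefdc98ab45762310), (nat_lit 0xab98fecd45673210), (nat_lit 0xefdcba8945673210)]),
  ((nat_lit 2), [(nat_lit 0xfedcba9876543210), (nat_lit 0xdcfeba9867542310), (nat_lit 0xfedcba9832107654), (nat_lit 0xdcfeba9823106754), (nat_lit 0xefdcab9832105476), (nat_lit 0xdcefab9823104576), (nat_lit 0xefdcab9876541032), (nat_lit 0xdcefab9867540132)]),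
  ((nat_lit 4), [(nat_lit 0xfedcba9876543210), (nat_lit 0xefdcab9854763210), (nat_lit 0xdcefab9854673201), (nat_lit 0xdcfeba9876453201)]),
  ((nat_lit 0), [(nat_lit 0xfedcba9876543210), (nat_lit 0xcdefba9867543201)])]

def sb_D1 : List ℕ := [(nat_lit 0), (nat_lit 513), (nat_lit 44034), (nat_lit 57858), (nat_lit 66050), (nat_lit 83458), (nat_lit 102402), (nat_lit 135682), (nat_lit 0), (nat_lit 1025), (nat_lit 2049), (nat_lit 231426), (nat_lit 262658), (nat_lit 296450), (nat_lit 332802), (nat_lit 370690), (nat_lit 0), (nat_lit 1537), (nat_lit 1114866436), (nat_lit 566786), (nat_lit 0), (nat_lit 23597827)]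

def sb : PM :=
  ⟨(nat_lit 16), (nat_lit 4), [(nat_lit 0xba98fedc76543210), (nat_lit 0xdcfeba9867542310), (nat_lit 0xefdcab9854763210), (nat_lit 0xfedcba9832107654), (nat_lit 0xfebadc9875643120)],
    [[.l 1, .l 2, .l 3, .l 4, .l 5],
    [.l 1, .l 2, .l 3, .l 4]],
    [sb_L0, sb_L1], [sb_D0, sb_D1]⟩

instance sb_ne : NeZero sb.n := ⟨by decide⟩

theorem sb_ok0 : sb.ok0 = true := by decide +kernel

theorem sb_k0 : allFrom (nat_lit 0) (nat_lit 1) sb.okK = true := by decide +kernel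

theorem sb_k1 : allFrom (nat_lit 1) (nat_lit 1) sb.okK = true := by decide +kernel

theorem sb_ok : sb.OK := PM.OK.of_check sb_ok0
  (of_allFrom_append (of_allFrom_append of_lt_zero sb_k0) sb_k1)

theorem sb_card0 : Nat.card (genW sb.gam (sb.ws 0)) = 1536 := (sb_ok.card 0).trans (by decide +kernel)

theorem sb_card1 : Nat.card (genW sb.gam (sb.ws 1)) = 512 := (sb_ok.card 1).trans (by decide +kernel)

def sm_L0 : List (ℕ × List ℕ) := [((nat_lit 2), [(nat_lit 0xfedcba9876543210), (nat_lit 0xdcfeba9867542310), (nat_lit 0xfedcba9854761032), (nat_lit 0xfedcba9832107654), (nat_lit 0xdcfeba9845760132), (nat_lit 0xdcfeba9823106754), (nat_lit 0xfedcba9810325476), (nat_lit 0xdcfeba9801324576)]),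
  ((nat_lit 4), [(nat_lit 0xfedcba9876543210), (nat_lit 0xefdcab9854763210), (nat_lit 0xdcfeba9876453201), (nat_lit 0xdcefab9854673201)]),
  ((nat_lit 8), [(nat_lit 0xfedcba9876543210), (nat_lit 0xba98fedc76543210), (nat_lit 0xdcfe98ba76543210), (nat_lit 0xba98cdef67543201), (nat_lit 0x98badcfe76543210), (nat_lit 0xfedc89ab67543201), (nat_lit 0x98baefcd67543201), (nat_lit 0xdcfeab8967543201)]),
  ((nat_lit 0), [(nat_lit 0xfedcba9876543210), (nat_lit 0xcdefba9867543201)])]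

def sm_D0 : List ℕ := [(nat_lit 0), (nat_lit 513), (nat_lit 4097), (nat_lit 4609), (nat_lit 161794), (nat_lit 173570), (nat_lit 201218), (nat_lit 248322), (nat_lit 0), (nat_lit 1025), (nat_lit 149250), (nat_lit 431106), (nat_lit 0), (nat_lit 2049), (nat_lit 2561), (nat_lit 74825264389), (nat_lit 614914), (nat_lit 693250), (nat_lit 719362), (nat_lit 804354), (nat_lit 0), (nat_lit 2332606724)]

def sm_L1 : List (ℕ × List ℕ) := [((nat_lit 8), [(nat_lit 0xfedcba9876543210), (nat_lit 0xba98fedc76543210), (nat_lit 0xdcfe98ba76543210), (nat_lit 0xefcdab8976543210), (nat_lit 0x98badcfe76543210), (nat_lit 0xab89efcd76543210), (nat_lit 0xcdef89ab76543210), (nat_lit 0x89abcdef76543210)]),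
  ((nat_lit 0), [(nat_lit 0xfedcba9876543210), (nat_lit 0xfedcba9867452301), (nat_lit 0xfedcba9854761032), (nat_lit 0xfedcba9832107654), (nat_lit 0xfedcba9845670123), (nat_lit 0xfedcba9823016745), (nat_lit 0xfedcba9810325476), (nat_lit 0xfedcba9801234567)])]

def sm_D1 : List ℕ := [(nat_lit 0), (nat_lit 513), (nat_lit 1025), (nat_lit 1537), (nat_lit 91138), (nat_lit 99842), (nat_lit 121346), (nat_lit 159234), (nat_lit 0), (nat_lit 2049), (nat_lit 2561), (nat_lit 3073), (nat_lit 313858), (nat_lit 330754), (nat_lit 368642), (nat_lit 431106)]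

def sm_L2 : List (ℕ × List ℕ) := [((nat_lit 2), [(nat_lit 0xfedcba9876543210), (nat_lit 0xdcfeba9867542310)]),
  ((nat_lit 4), [(nat_lit 0xfedcba9876543210), (nat_lit 0xefdcab9854763210), (nat_lit 0xfecdab9845673210), (nat_lit 0xefcdba9867453210)])]

def sm_D2 : List ℕ := [(nat_lit 0), (nat_lit 513), (nat_lit 0), (nat_lit 1025), (nat_lit 418051), (nat_lit 13125892)]

def sm_L3 : List (ℕ × List ℕ) := [((nat_lit 0), [(nat_lit 0xfedcba9876543210), (nat_lit 0xfedcba9867452301), (nat_lit 0xfedcba9832107654), (nat_lit 0xfedcba9823016745)]),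
  ((nat_lit 8), [(nat_lit 0xfedcba9876543210), (nat_lit 0xdcfe98ba76543210), (nat_lit 0xefcdab8976543210), (nat_lit 0xcdef89ab76543210)])]

def sm_D3 : List ℕ := [(nat_lit 0), (nat_lit 513), (nat_lit 1025), (nat_lit 50178), (nat_lit 0), (nat_lit 1537), (nat_lit 2049), (nat_lit 124930)]

def sm_L4 : List (ℕ × List ℕ) := [((nat_lit 0), [(nat_lit 0xfedcba9876543210), (nat_lit 0xfedcba9867452301), (nat_lit 0xfedcba9854761032), (nat_lit 0xfedcba9845670123)]),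
  ((nat_lit 8), [(nat_lit 0xfedcba9876543210), (nat_lit 0xba98fedc76543210), (nat_lit 0xefcdab8976543210), (nat_lit 0xab89efcd76543210)])]

def sm_D4 : List ℕ := [(nat_lit 0), (nat_lit 513), (nat_lit 1025), (nat_lit 50178), (nat_lit 0), (nat_lit 1537), (nat_lit 2049), (nat_lit 124930)]

def sm_L5 : List (ℕ × List ℕ) := [((nat_lit 0), [(nat_lit 0xfedcba9876543210), (nat_lit 0xfedcba9867452301), (nat_lit 0xfedcba9854761032), (nat_lit 0xfedcba9845670123)]),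
  ((nat_lit 8), [(nat_lit 0xfedcba9876543210), (nat_lit 0xdcfe98ba76543210), (nat_lit 0xefcdab8976543210), (nat_lit 0xcdef89ab76543210)])]

def sm_D5 : List ℕ := [(nat_lit 0), (nat_lit 513), (nat_lit 1025), (nat_lit 50178), (nat_lit 0), (nat_lit 1537), (nat_lit 2049), (nat_lit 124930)]

def sm_L6 : List (ℕ × List ℕ) := [((nat_lit 0), [(nat_lit 0xfedcba9876543210), (nat_lit 0xfedcba9867452301)]),
  ((nat_lit 8), [(nat_lit 0xfedcba9876543210), (nat_lit 0xdcfe98ba76543210), (nat_lit 0xefcdab8976543210), (nat_lit 0xcdef89ab76543210)])]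

def sm_D6 : List ℕ := [(nat_lit 0), (nat_lit 513), (nat_lit 0), (nat_lit 1025), (nat_lit 1537), (nat_lit 66050)]

def sm_L7 : List (ℕ × List ℕ) := [((nat_lit 0), [(nat_lit 0xfedcba9876543210), (nat_lit 0xfedcba9867452301), (nat_lit 0xfedcba9854761032), (nat_lit 0xfedcba9845670123)]),
  ((nat_lit 8), [(nat_lit 0xfedcba9876543210), (nat_lit 0xefcdab8976543210)])]

def sm_D7 : List ℕ := [(nat_lit 0), (nat_lit 513), (nat_lit 1025), (nat_lit 36866), (nat_lit 0), (nat_lit 1537)]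

def sm : PM :=
  ⟨(nat_lit 16), (nat_lit 4), [(nat_lit 0xdcfeba9867542310), (nat_lit 0xefdcab9854763210), (nat_lit 0xefcdba9867453210), (nat_lit 0xba98fedc76543210), (nat_lit 0xdcfe98ba76543210), (nat_lit 0xefcdab8976543210), (nat_lit 0xfedcba9867452301), (nat_lit 0xfedcba9854761032), (nat_lit 0xfedcba9832107654)],
    [[.l 1, .l 2, .l 3, .l 4, .l 5, .l 6, .l 7, .l 8, .l 9],
    [.l 4, .l 5, .l 6, .l 7, .l 8, .l 9],
    [.l 1, .l 2],
    [.l 7, .l 9, .l 5, .l 6],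
    [.l 7, .l 8, .l 4, .l 6],
    [.l 7, .l 8, .l 5, .l 6],
    [.l 7, .l 5, .l 6],
    [.l 7, .l 8, .l 6]],
    [sm_L0, sm_L1, sm_L2, sm_L3, sm_L4, sm_L5, sm_L6, sm_L7], [sm_D0, sm_D1, sm_D2, sm_D3, sm_D4, sm_D5, sm_D6, sm_D7]⟩

instance sm_ne : NeZero sm.n := ⟨by decide⟩

theorem sm_ok0 : sm.ok0 = true := by decide +kernel

theorem sm_k0 : allFrom (nat_lit 0) (nat_lit 1) sm.okK = true := by decide +kernel

theorem sm_k1 : allFrom (nat_lit 1) (nat_lit 1) sm.okK = true := by decide +kernel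

theorem sm_k2 : allFrom (nat_lit 2) (nat_lit 1) sm.okK = true := by decide +kernel

theorem sm_k3 : allFrom (nat_lit 3) (nat_lit 1) sm.okK = true := by decide +kernel

theorem sm_k4 : allFrom (nat_lit 4) (nat_lit 1) sm.okK = true := by decide +kernel

theorem sm_k5 : allFrom (nat_lit 5) (nat_lit 1) sm.okK = true := by decide +kernel

theorem sm_k6 : allFrom (nat_lit 6) (nat_lit 1) sm.okK = true := by decide +kernel

theorem sm_k7 : allFrom (nat_lit 7) (nat_lit 1) sm.okK = true := by decide +kernel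

theorem sm_ok : sm.OK := PM.OK.of_check sm_ok0
  (of_allFrom_append (of_allFrom_append (of_allFrom_append (of_allFrom_append (of_allFrom_append (of_allFrom_append (of_allFrom_append (of_allFrom_append of_lt_zero sm_k0) sm_k1) sm_k2) sm_k3) sm_k4) sm_k5) sm_k6) sm_k7)

theorem sm_card0 : Nat.card (genW sm.gam (sm.ws 0)) = 512 := (sm_ok.card 0).trans (by decide +kernel)

theorem sm_card1 : Nat.card (genW sm.gam (sm.ws 1)) = 64 := (sm_ok.card 1).trans (by decide +kernel)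

theorem sm_card2 : Nat.card (genW sm.gam (sm.ws 2)) = 8 := (sm_ok.card 2).trans (by decide +kernel)

theorem sm_card3 : Nat.card (genW sm.gam (sm.ws 3)) = 16 := (sm_ok.card 3).trans (by decide +kernel)

theorem sm_card4 : Nat.card (genW sm.gam (sm.ws 4)) = 16 := (sm_ok.card 4).trans (by decide +kernel)

theorem sm_card5 : Nat.card (genW sm.gam (sm.ws 5)) = 16 := (sm_ok.card 5).trans (by decide +kernel)

theorem sm_card6 : Nat.card (genW sm.gam (sm.ws 6)) = 8 := (sm_ok.card 6).trans (by decide +kernel)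

theorem sm_card7 : Nat.card (genW sm.gam (sm.ws 7)) = 8 := (sm_ok.card 7).trans (by decide +kernel)

theorem sm_A2 {G : Type*} [Group G] {γ : ℕ → G} (g : Gf sm γ 0 []) :
    ∀ x ∈ genW γ (sm.ws 1), x * x = 1 :=
  g.tr (φ := .all 1 40 [] (.one (.mul (.l 40) (.l 40)))) (by decide +kernel)

theorem sm_dec {G : Type*} [Group G] {γ : ℕ → G} (g : Gf sm γ 0 []) :
    ∀ s ∈ genW γ (sm.ws 0), ∃ x ∈ genW γ (sm.ws 2), s * x⁻¹ ∈ genW γ (sm.ws 1) :=
  g.tr (φ := .all 0 40 [] (.ex 2 41 [] (.mem 1 (.mul (.l 40) (.inv (.l 41)))))) (by decide +kernel)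

theorem sm_cls {G : Type*} [Group G] {γ : ℕ → G} (g : Gf sm γ 0 []) :
    ∀ s ∈ genW γ (sm.ws 0), s ∉ genW γ (sm.ws 1) → s * s ∈ genW γ (sm.ws 1) → ∃ x ∈ genW γ (sm.ws 2), x * s * x⁻¹ * γ 1 ∈ genW γ (sm.ws 1) ∨ x * s * x⁻¹ * γ 2 ∈ genW γ (sm.ws 1) ∨ x * s * x⁻¹ * γ 3 ∈ genW γ (sm.ws 1) :=
  g.tr (φ := .all 0 40 [] (.imp (.not (.mem 1 (.l 40))) (.imp (.mem 1 (.mul (.l 40) (.l 40))) (.ex 2 41 [] (.or (.mem 1 (.mul (.mul (.mul (.l 41) (.l 40)) (.inv (.l 41))) (.l 1))) (.or (.mem 1 (.mul (.mul (.mul (.l 41) (.l 40)) (.inv (.l 41))) (.l 2))) (.mem 1 (.mul (.mul (.mul (.l 41) (.l 40)) (.inv (.l 41))) (.l 3))))))))) (by decide +kernel)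

theorem sm_c1 {G : Type*} [Group G] {γ : ℕ → G} (g : Gf sm γ 0 []) :
    ∀ x ∈ genW γ (sm.ws 1), x * γ 1 = γ 1 * x → x ∈ genW γ (sm.ws 3) :=
  g.tr (φ := .all 1 40 [(.l 1, .l 1)] (.mem 3 (.l 40))) (by decide +kernel)

theorem sm_c2 {G : Type*} [Group G] {γ : ℕ → G} (g : Gf sm γ 0 []) :
    ∀ x ∈ genW γ (sm.ws 1), x * γ 2 = γ 2 * x → x ∈ genW γ (sm.ws 4) :=
  g.tr (φ := .all 1 40 [(.l 2, .l 2)] (.mem 4 (.l 40))) (by decide +kernel)

theorem sm_c0 {G : Type*} [Group G] {γ : ℕ → G} (g : Gf sm γ 0 []) :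
    ∀ x ∈ genW γ (sm.ws 1), x * γ 3 = γ 3 * x → x ∈ genW γ (sm.ws 5) :=
  g.tr (φ := .all 1 40 [(.l 3, .l 3)] (.mem 5 (.l 40))) (by decide +kernel)

theorem sm_s4 {G : Type*} [Group G] {γ : ℕ → G} (g : Gf sm γ 0 []) :
    ∀ s ∈ genW γ (sm.ws 0), s * s * (s * s) ∈ genW γ (sm.ws 1) :=
  g.tr (φ := .all 0 40 [] (.mem 1 (.mul (.mul (.l 40) (.l 40)) (.mul (.l 40) (.l 40))))) (by decide +kernel)

theorem sm_quad {G : Type*} [Group G] {γ : ℕ → G} (g : Gf sm γ 0 []) :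
    ∀ s ∈ genW γ (sm.ws 0), s * s = 1 → s ∉ genW γ (sm.ws 1) → ∀ x ∈ genW γ (sm.ws 2), x * s * x⁻¹ * s⁻¹ ∈ genW γ (sm.ws 1) → ∀ w ∈ genW γ (sm.ws 1), x * (w * s * w⁻¹ * s⁻¹) = w * s * w⁻¹ * s⁻¹ * x :=
  g.tr (φ := .all 0 40 [] (.imp (.one (.mul (.l 40) (.l 40))) (.imp (.not (.mem 1 (.l 40))) (.all 2 41 [] (.imp (.mem 1 (.mul (.mul (.mul (.l 41) (.l 40)) (.inv (.l 41))) (.inv (.l 40)))) (.all 1 42 [] (.eq (.mul (.l 41) (.mul (.mul (.mul (.l 42) (.l 40)) (.inv (.l 42))) (.inv (.l 40)))) (.mul (.mul (.mul (.mul (.l 42) (.l 40)) (.inv (.l 42))) (.inv (.l 40))) (.l 41))))))))) (by decide +kernel)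

theorem sm_c8 {G : Type*} [Group G] {γ : ℕ → G} (g : Gf sm γ 0 []) :
    ∀ s ∈ genW γ (sm.ws 0), s ∉ genW γ (sm.ws 1) → ∀ x ∈ genW γ (sm.ws 2), x ∉ genW γ (sm.ws 1) → s * x⁻¹ ∉ genW γ (sm.ws 1) → x * s * x⁻¹ * s⁻¹ ∈ genW γ (sm.ws 1) → (∀ w ∈ genW γ (sm.ws 1), w * s = s * w → w * x = x * w → w ∈ genW γ (sm.ws 6)) ∨ (∀ w ∈ genW γ (sm.ws 1), w * s = s * w → w * x = x * w → w ∈ genW γ (sm.ws 7)) :=
  g.tr (φ := .all 0 40 [] (.imp (.not (.mem 1 (.l 40))) (.all 2 41 [] (.imp (.not (.mem 1 (.l 41))) (.imp (.not (.mem 1 (.mul (.l 40) (.inv (.l 41))))) (.imp (.mem 1 (.mul (.mul (.mul (.l 41) (.l 40)) (.inv (.l 41))) (.inv (.l 40)))) (.or (.all 1 42 [(.l 40, .l 40), (.l 41, .l 41)] (.mem 6 (.l 42))) (.all 1 42 [(.l 40, .l 40), (.l 41, .l 41)] (.mem 7 (.l 42)))))))))) (by decide +kernel)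

theorem sm_nrm {G : Type*} [Group G] {γ : ℕ → G} (g : Gf sm γ 0 []) :
    ∀ s ∈ genW γ (sm.ws 0), s ∉ genW γ (sm.ws 1) → s * γ 3 ∈ genW γ (sm.ws 1) ∨ γ 1 * s * (γ 1)⁻¹ * s⁻¹ * γ 3 ∈ genW γ (sm.ws 1) ∨ γ 2 * s * (γ 2)⁻¹ * s⁻¹ * γ 3 ∈ genW γ (sm.ws 1) :=
  g.tr (φ := .all 0 40 [] (.imp (.not (.mem 1 (.l 40))) (.or (.mem 1 (.mul (.l 40) (.l 3))) (.or (.mem 1 (.mul (.mul (.mul (.mul (.l 1) (.l 40)) (.inv (.l 1))) (.inv (.l 40))) (.l 3))) (.mem 1 (.mul (.mul (.mul (.mul (.l 2) (.l 40)) (.inv (.l 2))) (.inv (.l 40))) (.l 3))))))) (by decide +kernel)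

theorem sm_u1 {G : Type*} [Group G] {γ : ℕ → G} (g : Gf sm γ 0 []) :
    ∀ w ∈ genW γ (sm.ws 1), w * γ 1 * w⁻¹ * (γ 1)⁻¹ = 1 ∨ w * γ 1 * w⁻¹ * (γ 1)⁻¹ = γ 7 ∨ w * γ 1 * w⁻¹ * (γ 1)⁻¹ = γ 5 ∨ w * γ 1 * w⁻¹ * (γ 1)⁻¹ = γ 7 * γ 5 :=
  g.tr (φ := .all 1 40 [] (.or (.one (.mul (.mul (.mul (.l 40) (.l 1)) (.inv (.l 40))) (.inv (.l 1)))) (.or (.eq (.mul (.mul (.mul (.l 40) (.l 1)) (.inv (.l 40))) (.inv (.l 1))) (.l 7)) (.or (.eq (.mul (.mul (.mul (.l 40) (.l 1)) (.inv (.l 40))) (.inv (.l 1))) (.l 5)) (.eq (.mul (.mul (.mul (.l 40) (.l 1)) (.inv (.l 40))) (.inv (.l 1))) (.mul (.l 7) (.l 5))))))) (by decide +kernel)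

theorem sm_u2 {G : Type*} [Group G] {γ : ℕ → G} (g : Gf sm γ 0 []) :
    ∀ w ∈ genW γ (sm.ws 1), w * γ 2 * w⁻¹ * (γ 2)⁻¹ = 1 ∨ w * γ 2 * w⁻¹ * (γ 2)⁻¹ = γ 6 ∨ w * γ 2 * w⁻¹ * (γ 2)⁻¹ = γ 8 ∨ w * γ 2 * w⁻¹ * (γ 2)⁻¹ = γ 6 * γ 8 :=
  g.tr (φ := .all 1 40 [] (.or (.one (.mul (.mul (.mul (.l 40) (.l 2)) (.inv (.l 40))) (.inv (.l 2)))) (.or (.eq (.mul (.mul (.mul (.l 40) (.l 2)) (.inv (.l 40))) (.inv (.l 2))) (.l 6)) (.or (.eq (.mul (.mul (.mul (.l 40) (.l 2)) (.inv (.l 40))) (.inv (.l 2))) (.l 8)) (.eq (.mul (.mul (.mul (.l 40) (.l 2)) (.inv (.l 40))) (.inv (.l 2))) (.mul (.l 6) (.l 8))))))) (by decide +kernel)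

theorem sm_u12 {G : Type*} [Group G] {γ : ℕ → G} (g : Gf sm γ 0 []) :
    ∀ w ∈ genW γ (sm.ws 1), ∀ x ∈ genW γ (sm.ws 1), w * γ 1 * w⁻¹ * (γ 1)⁻¹ = x * γ 2 * x⁻¹ * (γ 2)⁻¹ → w * γ 1 * w⁻¹ * (γ 1)⁻¹ = 1 :=
  g.tr (φ := .all 1 40 [] (.all 1 41 [] (.imp (.eq (.mul (.mul (.mul (.l 40) (.l 1)) (.inv (.l 40))) (.inv (.l 1))) (.mul (.mul (.mul (.l 41) (.l 2)) (.inv (.l 41))) (.inv (.l 2)))) (.one (.mul (.mul (.mul (.l 40) (.l 1)) (.inv (.l 40))) (.inv (.l 1))))))) (by decide +kernel)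

theorem sm_e1 {G : Type*} [Group G] {γ : ℕ → G} (g : Gf sm γ 0 []) :
    ∀ x ∈ genW γ (sm.ws 1), x * γ 1 = γ 1 * x → x * γ 3 = γ 3 * x → x ∈ genW γ (sm.ws 6) :=
  g.tr (φ := .all 1 40 [(.l 1, .l 1), (.l 3, .l 3)] (.mem 6 (.l 40))) (by decide +kernel)

theorem sm_e2 {G : Type*} [Group G] {γ : ℕ → G} (g : Gf sm γ 0 []) :
    ∀ x ∈ genW γ (sm.ws 1), x * γ 2 = γ 2 * x → x * γ 3 = γ 3 * x → x ∈ genW γ (sm.ws 7) :=
  g.tr (φ := .all 1 40 [(.l 2, .l 2), (.l 3, .l 3)] (.mem 7 (.l 40))) (by decide +kernel)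

theorem sm_zT {G : Type*} [Group G] {γ : ℕ → G} (g : Gf t24 γ 0 []) :
    ∀ x ∈ genW γ (t24.ws 1), x * γ 1 = γ 1 * x → x * γ 2 = γ 2 * x → x * γ 3 = γ 3 * x → x * γ 4 = γ 4 * x → x = 1 ∨ x = (γ 1 * (γ 2 * (γ 3 * γ 4) ^ 2) ^ 2) ^ 2 :=
  g.tr (φ := .all 1 40 [(.l 1, .l 1), (.l 2, .l 2), (.l 3, .l 3), (.l 4, .l 4)] (.or (.one (.l 40)) (.eq (.l 40) (.pow (.mul (.l 1) (.pow (.mul (.l 2) (.pow (.mul (.l 3) (.l 4)) 2)) 2)) 2)))) (by decide +kernel)

end Cfsg.Lib.GH
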